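import Cfsg.Agent.Lib.CS.Blk
import Cfsg.Agent.Lib.CS.EX

/-!
# A coprime automorphism of prime order with a centralizer of odd order: definitions

Throughout `Z = 𝛀 S` for a Sylow 2-subgroup `S`, and the aim is that `Z` is weakly closed in `S`.
-/

set_option autoImplicit false

namespace Cfsg.Lib.FQ

open Subgroup Cfsg.Lib.BG Cfsg.Lib.Transfer Cfsg.Lib.Loc Cfsg.Lib.PLocal Cfsg.Lib.CGT Cfsg.Lib.PU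
open scoped commutatorElement

scoped notation "𝐐" => pCoreOf 2
scoped notation "𝐑" => pResidualOf 2
scoped notation "𝛀" => omegaOneCenter 2
scoped notation "𝐉" => thompsonSubgroupOf 2
scoped notation "𝐁" => baum 2
scoped notation "𝐘" X:max => omegaOneCenter 2 (pCoreOf 2 X)
scoped notation "𝐖" X:max => ⁅omegaOneCenter 2 (pCoreOf 2 X), X⁆

variable {G : Type*} [Group G]

/-- `y` has odd prime order and acts without fixed points on the Sylow 2-subgroup `S`; the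
normalizer of a 2-subgroup normalized by a conjugate of `y` is 2-closed modulo the centralizer. -/
structure Lo (S : Subgroup G) (y : G) : Prop where
  syl : SylIn 2 S ⊤
  nS : y ∈ 𝐍(S)
  pr : (orderOf y).Prime
  odd : orderOf y ≠ 2
  fpf : S ⊓ 𝐂[y] = ⊥
  loc : ∀ (c : G) (U T : Subgroup G), IsPGroup 2 U → U ≠ ⊥ → c * y * c⁻¹ ∈ 𝐍(U) → SylIn 2 T 𝐍(U) →
    ∀ h ∈ 𝐍(U), ∃ k ∈ 𝐂(U), h ⋆ T = k ⋆ T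

/-- A configuration. -/
structure Cf (Z W T : Subgroup G) : Prop where
  pg : IsPGroup 2 W
  le : Z ≤ W
  syl : SylIn 2 T 𝐍(W)
  cz : T ≤ 𝐂(Z)
  nle : ¬ 𝐍(W) ≤ 𝐍(Z)

/-- The Thompson and Baumann subgroups of an extremal configuration. -/
structure Xt (S : Subgroup G) (y : G) (J B : Subgroup G) : Prop extends Lo S y where
  g1 : ∀ x, x ⋆ 𝛀 S ≤ 𝐂(J) → x ∈ 𝐍(𝛀 S)
  jj : ∀ W T, Cf (𝛀 S) W T → J ≤ T → 𝐉 T = J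
  bb : ∀ W T, Cf (𝛀 S) W T → B ≤ T → 𝐁 T = B
  ex : ∃ W T, Cf (𝛀 S) W T ∧ B ≤ T
  JB : J ≤ B

/-- `R` acts on `V` as a group of transvection type. -/
structure Tq (R V : Subgroup G) : Prop where
  el : IsElementaryAbelian 2 V
  le : V ≤ R
  nV : R ≤ 𝐍(V)
  quad : ⁅V, R⁆ ≤ 𝐂(R)
  nc : ¬ V ≤ 𝐂(R)
  idx : 𝐂(R).relIndex V = 𝐂(V).relIndex R
  ti : ∀ v ∈ V, ∀ t ∈ R, t * v = v * t → t ∈ 𝐂(V) ∨ v ∈ 𝐂(R)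

/-- A block: `g` acts trivially on `C_R(V) / V` and fixes no nontrivial commutator. -/
structure Bq (R V : Subgroup G) (g : G) : Prop extends Tq R V where
  cg : ∀ x ∈ R ⊓ 𝐂(V), ⁅x, g⁆ ∈ V
  nd : ∀ v ∈ V, ∀ t ∈ R, ⁅t, v⁆ ∈ 𝐂[g] → t ∈ 𝐂(V) ∨ v ∈ 𝐂(R)

/-- `C` is invariant under the automorphisms of `B` that leave `Q` invariant. -/
def Ch (B Q C : Subgroup G) : Prop := ∀ φ : B ≃* B,
  (Q.subgroupOf B).map (φ : B →* B) = Q.subgroupOf B → (C.subgroupOf B).map (φ : B →* B) = C.subgroupOf B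

/-- The input of the pushing up step. -/
structure Pre (T M P : Subgroup G) (I : Subgroup G → Prop) : Prop where
  pm : PMin 2 T M P
  cz : P ⊓ 𝐂(𝐘 P ⊓ 𝐂(T)) ≤ M
  nj : P ⊓ 𝐍(𝐉 T) ≤ M
  i0 : I ⊥
  i1 : ∀ Q C, I Q → Q ≤ C → C ≤ 𝐁 T → Ch (𝐁 T) Q C → I C
  i2 : ∀ Q ≤ 𝐁 T, I Q → 𝐁 T ⊓ 𝐂(Q) ≤ Q → P ⊓ 𝐍(Q) ≤ M

/-- The output of the pushing up step. -/
structure Post (T M P V : Subgroup G) (g : G) : Prop where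
  gP : g ∈ P
  gM : g ∉ M
  bq : Bq (𝐁 T) V g
  nc : ¬ 𝐉 T ≤ 𝐂(V)
  le : V ≤ 𝐘 P
  cq : ∀ x ∈ 𝐐 P, ⁅x, g⁆ ∈ V

/-- The output of the pushing up step in a configuration. -/
structure Ot (Z J B W T P M V : Subgroup G) (g : G) : Prop where
  pm : PMin 2 T M P
  nW : P ≤ 𝐍(W)
  nz : P ⊓ 𝐍(Z) ≤ M
  gP : g ∈ P
  gM : g ∉ M
  bq : Bq J V g
  nV : B ≤ 𝐍(V)
  le : V ≤ 𝐘 P
  cq : ∀ x ∈ 𝐐 P, ⁅x, g⁆ ∈ V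

/-- Two sides that are swapped by `a`; here `V = 𝐘 P` and `E = J ⊓ 𝐂(𝐘 P)`. -/
structure Tw (J A T P M : Subgroup G) (g a : G) : Prop where
  pm : PMin 2 T M P
  cz : P ⊓ 𝐂(𝐘 P ⊓ 𝐂(T)) ≤ M
  gP : g ∈ P
  gM : g ∉ M
  jT : 𝐉 T = J
  bq : Bq J (𝐘 P) g
  cq : ∀ x ∈ 𝐐 P, ⁅x, g⁆ ∈ 𝐘 P
  syl : SylIn 2 T (𝐍(J) ⊓ 𝐍(J ⊓ 𝐂(𝐘 P)))
  el : IsElementaryAbelian 2 A
  nJ : A ≤ 𝐍(J)
  max : ∀ D ≤ J ⊔ A, IsElementaryAbelian 2 D → Nat.card D ≤ Nat.card A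
  aA : a ∈ A
  nT : a ∈ 𝐍(T)
  le : A ⊓ 𝐍(J ⊓ 𝐂(𝐘 P)) ≤ T
  nc : ¬ 𝐘 P ≤ 𝐂(a ⋆ 𝐘 P)

/-- A family of pairs of involutions in a 2-group. -/
structure Pw (S : Subgroup G) (P : G → G → Prop) : Prop where
  pg : IsPGroup 2 S
  cj : ∀ n ∈ 𝐍(S), ∀ z u, P z u → P (n * z * n⁻¹) (n * u * n⁻¹)
  mem : ∀ z u, P z u → z ∈ S ∧ u ∈ S ∧ z * z = 1 ∧ u * u = 1 ∧ z ≠ 1 ∧ z * u = u * z
  nb : ∀ z u, P z u → ∃ w, P z w ∧ ⁅u, w⁆ = z ∧ ∀ x ∈ S ⊓ 𝐂[z] ⊓ 𝐂[u], ⁅x, w⁆ ∈ zpowers z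
  sq : ∀ z u, P z u → ∃ D : Subgroup G, z ∉ D ∧ ∀ x ∈ S ⊓ 𝐂[z] ⊓ 𝐂[u], x * x ∈ D
  inj : ∀ z u v, P z u → P z v → S ⊓ 𝐂[z] ⊓ 𝐂[u] ≤ 𝐂[v] → v = u ∨ v = u * z

end Cfsg.Lib.FQ
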