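import Cfsg.Agent.Lib.FQ.Defs

/-!
# Pairs of blocks over the same group
-/

set_option autoImplicit false
set_option linter.unusedSectionVars false

namespace Cfsg.Lib.FQ

open Subgroup Cfsg.Lib.BG Cfsg.Lib.Transfer Cfsg.Lib.Loc Cfsg.Lib.PLocal Cfsg.Lib.CGT Cfsg.Lib.PU
open Cfsg.Lib.CS
open scoped commutatorElement

variable {G : Type*} [Group G] [Finite G] {A R U V V' V₁ V₂ V₃ : Subgroup G} {b d g g' g₁ g₂ g₃ v w x : G}

omit [Finite G] in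
theorem mem_cent_map {G' : Type*} [Group G'] {f : G →* G'} (hf : Function.Injective f) :
    f x ∈ 𝐂(R.map f) ↔ x ∈ 𝐂(R) := by
  simp only [BG.mem_cent]
  constructor
  · intro h r hr; exact hf (by simpa using h (f r) (mem_map_of_mem f hr))
  · rintro h _ ⟨r, hr, rfl⟩; rw [← map_mul, h r hr, map_mul]

omit [Finite G] in
theorem le_cent_map {G' : Type*} [Group G'] {f : G →* G'} (hf : Function.Injective f) :
    V.map f ≤ 𝐂(R.map f) ↔ V ≤ 𝐂(R) := by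
  rw [map_le_iff_le_comap]
  exact ⟨fun h _ hx => (mem_cent_map hf).1 (h hx), fun h _ hx => (mem_cent_map hf).2 (h hx)⟩

omit [Finite G] in
theorem idx_cent_map {G' : Type*} [Group G'] {f : G →* G'} (hf : Function.Injective f) :
    𝐂(R.map f).relIndex (V.map f) = 𝐂(R).relIndex V := by
  rw [← relIndex_comap]; congr 1; ext x; exact mem_cent_map hf

omit [Finite G] in
theorem mem_cent1_map {G' : Type*} [Group G'] {f : G →* G'} (hf : Function.Injective f) :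
    f x ∈ 𝐂[f g] ↔ x ∈ 𝐂[g] := by
  rw [mem_cent1, mem_cent1, ← map_mul, ← map_mul, hf.eq_iff]

omit [Finite G] in
/-- Transfer along an injective homomorphism. -/
theorem tq_map {G' : Type*} [Group G'] {f : G →* G'} (hf : Function.Injective f) :
    Tq (R.map f) (V.map f) ↔ Tq R V := by
  have e1 : R.map f ≤ 𝐍(V.map f) ↔ R ≤ 𝐍(V) := by
    rw [le_normalizer_iff_commutator_le_left, le_normalizer_iff_commutator_le_left, ← map_commutator,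
      map_le_map_iff_of_injective hf]
  have e2 : ⁅V.map f, R.map f⁆ ≤ 𝐂(R.map f) ↔ ⁅V, R⁆ ≤ 𝐂(R) := by rw [← map_commutator, le_cent_map hf]
  constructor
  · intro h
    refine ⟨(PGroup.elemAb_map_iff_of_injective hf).1 h.el, (map_le_map_iff_of_injective hf).1 h.le, e1.1 h.nV,
      e2.1 h.quad, fun e => h.nc ((le_cent_map hf).2 e), ?_, fun v hv t ht e => ?_⟩
    · rw [← idx_cent_map hf, h.idx, idx_cent_map hf]
    · exact (h.ti _ (mem_map_of_mem f hv) _ (mem_map_of_mem f ht) (by rw [← map_mul, e, map_mul])).imp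
        (mem_cent_map hf).1 (mem_cent_map hf).1
  · intro h
    refine ⟨(PGroup.elemAb_map_iff_of_injective hf).2 h.el, map_mono h.le, e1.2 h.nV,
      e2.2 h.quad, fun e => h.nc ((le_cent_map hf).1 e), ?_, ?_⟩
    · rw [idx_cent_map hf, h.idx, idx_cent_map hf]
    · rintro _ ⟨v, hv, rfl⟩ _ ⟨t, ht, rfl⟩ e
      exact (h.ti v hv t ht (hf (by rw [map_mul, e, map_mul]))).imp (mem_cent_map hf).2 (mem_cent_map hf).2

omit [Finite G] in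
theorem bq_map {G' : Type*} [Group G'] {f : G →* G'} (hf : Function.Injective f) :
    Bq (R.map f) (V.map f) (f g) ↔ Bq R V g := by
  constructor
  · intro h
    refine ⟨(tq_map hf).1 h.toTq, fun x hx => ?_, fun v hv t ht e => ?_⟩
    · have := h.cg (f x) ⟨mem_map_of_mem f hx.1, (mem_cent_map hf).2 hx.2⟩
      rw [← map_commutatorElement] at this
      exact (mem_map_iff_mem hf).1 this
    · exact (h.nd _ (mem_map_of_mem f hv) _ (mem_map_of_mem f ht)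
        (by rw [← map_commutatorElement]; exact (mem_cent1_map hf).2 e)).imp
        (mem_cent_map hf).1 (mem_cent_map hf).1
  · intro h
    refine ⟨(tq_map hf).2 h.toTq, ?_, ?_⟩
    · rintro _ ⟨⟨x, hx, rfl⟩, h2⟩
      rw [← map_commutatorElement]
      exact mem_map_of_mem f (h.cg x ⟨hx, (mem_cent_map hf).1 h2⟩)
    · rintro _ ⟨v, hv, rfl⟩ _ ⟨t, ht, rfl⟩ e
      rw [← map_commutatorElement] at e
      exact (h.nd v hv t ht ((mem_cent1_map hf).1 e)).imp (mem_cent_map hf).2 (mem_cent_map hf).2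

omit [Finite G] in
theorem Tq.conj (h : Tq R V) (x : G) : Tq (x ⋆ R) (x ⋆ V) := (tq_map (MulAut.conj x).injective).2 h

omit [Finite G] in
theorem Bq.conj (h : Bq R V g) (x : G) : Bq (x ⋆ R) (x ⋆ V) (x * g * x⁻¹) := (bq_map (f := (MulAut.conj x).toMonoidHom) (MulAut.conj x).injective).2 h

omit [Finite G] in
theorem Bq.conj' (h : Bq R V g) (hx : x ∈ 𝐍(R)) : Bq R (x ⋆ V) (x * g * x⁻¹) := by
  have := h.conj x
  rwa [conj_eq_of_norm hx] at this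

theorem le_sup_idx {H X D : Subgroup G} (h : X ≤ D) (h1 : H.relIndex D ≤ H.relIndex X) :
    D ≤ X ⊔ D ⊓ H := by
  have h2 := relIndex_mul_relIndex (D ⊓ H) (X ⊔ D ⊓ H) D le_sup_right (sup_le h inf_le_left)
  have h3 : H.relIndex X ≤ (D ⊓ H).relIndex (X ⊔ D ⊓ H) :=
    (relIndex_le_of_le_left inf_le_right index_ne_zero_of_finite).trans
      (relIndex_le_of_le_right le_sup_left index_ne_zero_of_finite)
  rw [inf_relIndex_left] at h2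
  exact relIndex_eq_one.1 (le_antisymm (Nat.le_of_mul_le_mul_left (h2.le.trans ((h1.trans h3).trans (mul_one _).ge))
    (Nat.pos_of_ne_zero index_ne_zero_of_finite)) (Nat.pos_of_ne_zero index_ne_zero_of_finite))

omit [Finite G] in
theorem Tq.inf_le' (h : Tq R V) (hA : A ≤ R) (n : ¬ A ≤ 𝐂(V)) : V ⊓ 𝐂(A) ≤ 𝐂(R) := by
  obtain ⟨a, ha, h1⟩ := SetLike.not_le_iff_exists.1 n
  exact fun v hv => (h.ti v hv.1 a (hA ha) (BG.mem_cent.1 hv.2 a ha)).resolve_left h1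

theorem Tq.idx_le (h : Tq R V) (hA : A ≤ R) (n : ¬ A ≤ 𝐂(V)) : 𝐂(V).relIndex R ≤ 𝐂(A).relIndex V := by
  rw [← h.idx, ← inf_relIndex_left V 𝐂(A)]
  exact relIndex_le_of_le_left (h.inf_le' hA n) index_ne_zero_of_finite

omit [Finite G] in
theorem el_sq (hV : IsElementaryAbelian 2 V) (hv : v ∈ V) : v * v = 1 := by
  rw [← pow_two]; exact hV.2 v hv

omit [Finite G] in
theorem Tq.self_cent (h : Tq R V) : V ≤ 𝐂(V) := abelian_cent h.el.1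

omit [Finite G] in
/-- P1. Take `v ∈ V` outside `𝐂(V')` and use `k.ti` with `t = v`. -/
theorem Tq.inf_le (h : Tq R V) (k : Tq R V') (n : ¬ V ≤ 𝐂(V')) : V' ⊓ 𝐂(V) ≤ 𝐂(R) := k.inf_le' h.le n

/-- P2. `|R : C_R(V)| ≥ |V' : C_{V'}(V)| ≥ |V' : C_{V'}(R)| = |R : C_R(V')|` by P1, and symmetrically. -/
theorem Tq.idx_eq (h : Tq R V) (k : Tq R V') (n : ¬ V ≤ 𝐂(V')) : 𝐂(V').relIndex R = 𝐂(V).relIndex R := ((k.idx_le h.le n).trans (relIndex_le_of_le_right k.le index_ne_zero_of_finite)).antisymm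
    ((h.idx_le k.le fun e => n (cent_symm e)).trans (relIndex_le_of_le_right h.le index_ne_zero_of_finite))

/-- P2. The chain above consists of equalities, so `|V' : C_{V'}(V)| = |R : C_R(V)|`. -/
theorem Tq.le_sup (h : Tq R V) (k : Tq R V') (n : ¬ V ≤ 𝐂(V')) : R ≤ V' ⊔ R ⊓ 𝐂(V) := le_sup_idx k.le ((h.idx_eq k n).ge.trans (k.idx_le h.le n))

theorem Tq.mul_dec (h : Tq R V) (k : Tq R V') (n : ¬ V ≤ 𝐂(V')) (hx : x ∈ R) :
    ∃ w ∈ V', ∃ e ∈ R ⊓ 𝐂(V), w * e = x :=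
  (mem_sup_left_norm (inf_le_left.trans k.nV)).1 (h.le_sup k n hx)

/-- P3. `R = V' C_R(V)` and `C_R(V) = V (C_R(V) ⊓ C_R(V'))` (modular law with `R = V C_R(V')`). -/
theorem Tq.dec (h : Tq R V) (k : Tq R V') (n : ¬ V ≤ 𝐂(V')) (hx : x ∈ R) :
    ∃ w ∈ V', ∃ v ∈ V, ∃ d ∈ R ⊓ 𝐂(V) ⊓ 𝐂(V'), x = w * v * d := by
  obtain ⟨w, hw, e, he, rfl⟩ := h.mul_dec k n hx
  obtain ⟨v, hv, d, hd, rfl⟩ := k.mul_dec h (fun e => n (cent_symm e)) he.1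
  exact ⟨w, hw, v, hv, d, ⟨⟨hd.1, (mul_mem_cancel_left (h.self_cent hv)).1 he.2⟩, hd.2⟩, (mul_assoc _ _ _).symm⟩

omit [Finite G] in
/-- P6. `g d g⁻¹ = u d` with `u ∈ V` an involution commuting with `d`. -/
theorem sq_mem (hV : IsElementaryAbelian 2 V) (h1 : d ∈ 𝐂(V)) (h2 : ⁅d, g⁆ ∈ V) : d * d ∈ 𝐂[g] := by
  have c := BG.mem_cent.1 h1 _ h2
  have s := el_sq hV h2
  have e : d * g = ⁅d, g⁆ * (g * d) := by rw [commutatorElement_def]; group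
  generalize ⁅d, g⁆ = u at *
  rw [mem_cent1]
  calc d * d * g = d * u * (g * d) := by rw [mul_assoc, e, mul_assoc]
    _ = u * (d * g) * d := by rw [← c]; group
    _ = u * u * (g * (d * d)) := by rw [e]; group
    _ = g * (d * d) := by rw [s, one_mul]

omit [Finite G] in
/-- P6. A commutator is a product of squares: `⁅x, d⁆ = (x * x) * ((x⁻¹ d) * (x⁻¹ d)) * (d * d)⁻¹`. -/
theorem Bq.comm_mem (h : Bq R V g) (hx : x ∈ R ⊓ 𝐂(V)) (hd : d ∈ R ⊓ 𝐂(V)) : ⁅x, d⁆ ∈ 𝐂[g] := by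
  have k : ∀ y ∈ R ⊓ 𝐂(V), y * y ∈ 𝐂[g] := fun y hy => sq_mem h.el hy.2 (h.cg y hy)
  have e : ⁅x, d⁆ = (x * x) * ((x⁻¹ * d) * (x⁻¹ * d)) * (d * d)⁻¹ := by rw [commutatorElement_def]; group
  rw [e]
  exact mul_mem (mul_mem (k x hx) (k _ (mul_mem (inv_mem hx) hd))) (inv_mem (k d hd))

omit [Finite G] in
/-- P4. `1 = b² = ⁅w, v⁆ d²`, so `⁅w, v⁆ ∈ 𝐂[g]` by `sq_mem`; `h.nd` gives `w ∈ 𝐂(V)` or `v ∈ 𝐂(R) ≤ 𝐂(V')`. -/
theorem Bq.inv_or (h : Bq R V g) (k : Tq R V') (hw : w ∈ V') (hv : v ∈ V) (h1 : d ∈ 𝐂(V) ⊓ 𝐂(V'))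
    (h2 : ⁅d, g⁆ ∈ V) (e : b = w * v * d) (hb : b * b = 1) : b ∈ 𝐂(V) ∨ b ∈ 𝐂(V') := by
  have c1 := BG.mem_cent.1 h1.1 v hv
  have c2 := BG.mem_cent.1 h1.2 w hw
  have s1 := inv_eq_of_mul_eq_one_right (el_sq h.el hv)
  have s2 := inv_eq_of_mul_eq_one_right (el_sq k.el hw)
  have e2 : ⁅w, v⁆ * (d * d) = 1 := by
    rw [← hb, e, commutatorElement_def, s1, s2]
    calc w * v * w * v * (d * d) = w * v * w * (v * d) * d := by group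
      _ = w * v * (w * d) * v * d := by rw [c1]; group
      _ = _ := by rw [c2]; group
  have m : ⁅w, v⁆ ∈ 𝐂[g] := by
    rw [eq_inv_of_mul_eq_one_left e2]; exact inv_mem (sq_mem h.el h1.1 h2)
  subst e
  exact (h.nd v hv w (k.le hw) m).imp (fun a => mul_mem (mul_mem a (h.self_cent hv)) h1.1)
    fun a => mul_mem (mul_mem (k.self_cent hw) (cent_anti k.le a)) h1.2

/-- P5. Involutions of `R` centralize `V₁` or `V₂` (`dec`, `inv_or`), so `V₃ ≤ 𝐂(V₂)` (a group is not a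
union of two proper subgroups). For `x = w v d ∈ C_R(V₂)` one has `v ∈ 𝐂(R)` (P1), so it suffices that
`c = ⁅u, d⁆ = 1` for `u ∈ V₃`, `d ∈ R ⊓ 𝐂(V₁) ⊓ 𝐂(V₂)`. Write `u = v₂ e₁` (`R = V₂ C_R(V₁)`): then
`c = v₂ ⁅e₁, d⁆ v₂⁻¹` and `c ∈ 𝐂(R)` (`quad`), so `c = ⁅e₁, d⁆ ∈ 𝐂[g₁]` by `comm_mem`. Write `d = v₁ e₃`
(`R = V₁ C_R(V₃)`): `c = ⁅u, v₁⁆`. Now `h₁.nd` gives `v₁ ∈ 𝐂(R)` or `u ∈ 𝐂(V₁)`; both give `c = 1`. -/
theorem Bq.side_le (h₁ : Bq R V₁ g₁) (h₂ : Tq R V₂) (h₃ : Tq R V₃) (n₂ : ¬ V₁ ≤ 𝐂(V₂))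
    (n₃ : ¬ V₁ ≤ 𝐂(V₃)) : R ⊓ 𝐂(V₂) ≤ 𝐂(V₃) := by
  have n₂' : ¬ V₂ ≤ 𝐂(V₁) := fun e => n₂ (cent_symm e)
  have n₃' : ¬ V₃ ≤ 𝐂(V₁) := fun e => n₃ (cent_symm e)
  have o : ∀ u ∈ V₃, u ∈ 𝐂(V₁) ∨ u ∈ 𝐂(V₂) := fun u hu => by
    obtain ⟨w, hw, v, hv, d, hd, e⟩ := h₁.toTq.dec h₂ n₂ (h₃.le hu)
    exact h₁.inv_or h₂ hw hv ⟨hd.1.2, hd.2⟩ (h₁.cg d hd.1) e (el_sq h₃.el hu)
  have s : V₃ ≤ 𝐂(V₂) := fun u hu => by
    obtain ⟨a, ha, h1⟩ := SetLike.not_le_iff_exists.1 n₃'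
    refine (o u hu).elim (fun c => ?_) id
    exact (mul_mem_cancel_right ((o a ha).resolve_left h1)).1 ((o _ (mul_mem hu ha)).resolve_left
      fun e => h1 ((mul_mem_cancel_left c).1 e))
  intro x hx
  obtain ⟨w, hw, v, hv, d, hd, rfl⟩ := h₁.toTq.dec h₂ n₂ hx.1
  have hv' : v ∈ 𝐂(R) := h₂.inf_le h₁.toTq n₂' ⟨hv,
    (mul_mem_cancel_left (h₂.self_cent hw)).1 ((mul_mem_cancel_right (H := 𝐂(V₂)) hd.2).1 hx.2)⟩
  refine mul_mem (mul_mem (cent_symm s hw) (cent_anti h₃.le hv')) (BG.mem_cent.2 fun u hu => ?_)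
  rw [← commutatorElement_eq_one_iff_mul_comm]
  have c : ⁅u, d⁆ ∈ 𝐂(R) := h₃.quad (commutator_mem_commutator hu hd.1.1)
  obtain ⟨v₂, h2, e₁, he, e⟩ := h₁.toTq.mul_dec h₂ n₂ (h₃.le hu)
  have e1 : ⁅u, d⁆ = ⁅e₁, d⁆ := by
    have a := BG.mem_cent.1 c v₂ (h₂.le h2)
    have b := BG.mem_cent.1 hd.2 v₂ h2
    have : ⁅u, d⁆ * v₂ = v₂ * ⁅e₁, d⁆ := by
      rw [← e, commutatorElement_def, commutatorElement_def]
      calc v₂ * e₁ * d * (v₂ * e₁)⁻¹ * d⁻¹ * v₂ = v₂ * e₁ * d * e₁⁻¹ * (d * v₂)⁻¹ * v₂ := by group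
        _ = _ := by rw [← b]; group
    rw [← a] at this
    exact mul_left_cancel this
  obtain ⟨v₁, h1, e₃, he', e'⟩ := h₃.mul_dec h₁.toTq n₃' hd.1.1
  have e2 : ⁅u, d⁆ = ⁅u, v₁⁆ := by
    have b := BG.mem_cent.1 he'.2 u⁻¹ (inv_mem hu)
    rw [← e', commutatorElement_def, commutatorElement_def]
    calc u * (v₁ * e₃) * u⁻¹ * (v₁ * e₃)⁻¹ = u * v₁ * (e₃ * u⁻¹) * (v₁ * e₃)⁻¹ := by group
      _ = _ := by rw [← b]; group
  rw [e2, commutatorElement_eq_one_iff_mul_comm]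
  exact (h₁.nd v₁ h1 u (h₃.le hu) (by rw [← e2, e1]; exact h₁.comm_mem he hd.1)).elim
    (fun a => (BG.mem_cent.1 a v₁ h1).symm) fun a => BG.mem_cent.1 a u (h₃.le hu)

theorem Bq.side_eq (h₁ : Bq R V₁ g₁) (h₂ : Tq R V₂) (h₃ : Tq R V₃) (n₂ : ¬ V₁ ≤ 𝐂(V₂))
    (n₃ : ¬ V₁ ≤ 𝐂(V₃)) : R ⊓ 𝐂(V₂) = R ⊓ 𝐂(V₃) :=
  le_antisymm (le_inf inf_le_left (h₁.side_le h₂ h₃ n₂ n₃)) (le_inf inf_le_left (h₁.side_le h₃ h₂ n₃ n₂))

/-- P8. -/
theorem Bq.mem_norm (h : Bq R V g) (h1 : V ≤ U) (h2 : U ≤ R ⊓ 𝐂(V)) : g ∈ 𝐍(U) := by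
  refine mem_normalizer_of_conj_le (conj_le_iff.2 fun u hu => ?_)
  have e : g * u * g⁻¹ = ⁅u, g⁆⁻¹ * u := by rw [commutatorElement_def]; group
  rw [e]
  exact mul_mem (inv_mem (h1 (h.cg u (h2 hu)))) hu

/-- P9. `A ⊓ V ≤ 𝐂(R)` by `ti`, so `|A : C_A(V)| ≤ |R : C_R(V)| = |V : C_V(R)| ≤ |V : V ⊓ A|`
(compare `PU.FF.repl` in `B2C/FFa`). -/
theorem Tq.repl (h : Tq R V) (hA : A ∈ maxIn 2 R) (n : ¬ A ≤ 𝐂(V)) : A ⊓ 𝐂(V) ⊔ V ∈ maxIn 2 R := repl_mem hA h.le h.el ((relIndex_le_of_le_right hA.1 index_ne_zero_of_finite).trans (h.idx_le hA.1 n))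

/-- P9. `|R : C_R(V)| = |V : C_V(R)| = |V : C_V(A)| ≤ |A : C_A(V)|` by `ti` and `max_off`. -/
theorem Tq.le_sup_max (h : Tq R V) (hA : A ∈ maxIn 2 R) (n : ¬ A ≤ 𝐂(V)) : R ≤ A ⊔ R ⊓ 𝐂(V) := le_sup_idx hA.1 ((h.idx_le hA.1 n).trans (max_off hA h.le h.el))

/-- P9. Take `A ∈ maxIn 2 R` with `¬ A ≤ 𝐂(V)`. `V ≤ 𝐉 R` by `repl`, `C_V(𝐉 R) = C_V(R)` by `ti`,
`|𝐉 R : C(V)| = |R : C(V)|` by `le_sup_max`. -/
theorem Bq.thompson (h : Bq R V g) (n : ¬ 𝐉 R ≤ 𝐂(V)) : Bq (𝐉 R) V g := by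
  obtain ⟨A, hA, nA⟩ : ∃ A ∈ maxIn 2 R, ¬ A ≤ 𝐂(V) := by
    by_contra! c; exact n (thompsonSubgroupOf_le_iff.2 c)
  have l := thompsonSubgroupOf_le (e := 2) R
  refine ⟨⟨h.el, le_sup_right.trans (le_thompsonSubgroupOf (h.toTq.repl hA nA)), l.trans h.nV,
    cent_mono h.quad (commutator_mono le_rfl l) l, fun e => n (cent_symm e), ?_,
    fun v hv t ht e => (h.ti v hv t (l ht) e).imp id fun a => cent_anti l a⟩,
    fun x hx => h.cg x ⟨l hx.1, hx.2⟩, fun v hv t ht e => (h.nd v hv t (l ht) e).imp id fun a => cent_anti l a⟩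
  refine le_antisymm ((relIndex_le_of_le_left (cent_anti l) index_ne_zero_of_finite).trans (h.idx.le.trans
    ((h.toTq.idx_le hA.1 nA).trans ((max_off hA h.le h.el).trans (relIndex_le_of_le_right
      (le_thompsonSubgroupOf hA) index_ne_zero_of_finite))))) ?_
  exact (relIndex_le_of_le_right l index_ne_zero_of_finite).trans (h.toTq.idx_le l n)

/-- P10. With `A` as before, `R = A C_R(V)` gives `C_U(A) = C_U(R)`, and `max_off` gives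
`|U : C_U(R)| ≤ |A : C_A(U)| ≤ |R : C_R(V)| = |V : C_V(R)|`, so `U = V C_U(R)`; `C_R(U) = C_R(V)`. -/
theorem Bq.enlarge (h : Bq R V g) (n : ¬ 𝐉 R ≤ 𝐂(V)) (h1 : V ≤ U) (h2 : U ≤ R)
    (h3 : IsElementaryAbelian 2 U) (h4 : R ≤ 𝐍(U)) (h5 : R ⊓ 𝐂(V) ≤ 𝐂(U)) : Bq R U g := by
  obtain ⟨A, hA, nA⟩ : ∃ A ∈ maxIn 2 R, ¬ A ≤ 𝐂(V) := by
    by_contra! c; exact n (thompsonSubgroupOf_le_iff.2 c)
  have a1 : U ⊓ 𝐂(A) ≤ 𝐂(R) :=
    (le_cent_sup inf_le_right (inf_le_left.trans (cent_symm h5))).trans (cent_anti (h.toTq.le_sup_max hA nA))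
  have a2 : 𝐂(R).relIndex U ≤ 𝐂(R).relIndex V := by
    refine (relIndex_le_of_le_left a1 index_ne_zero_of_finite).trans ?_
    rw [inf_relIndex_left, h.idx]
    refine (max_off hA h2 h3).trans ((relIndex_le_of_le_right hA.1 index_ne_zero_of_finite).trans
      ((relIndex_le_of_le_left h5 index_ne_zero_of_finite).trans (inf_relIndex_left _ _).le))
  have a3 : ∀ u ∈ U, ∃ v ∈ V, ∃ z ∈ 𝐂(R), v * z = u := fun u hu => by
    obtain ⟨v, hv, z, hz, e⟩ := (mem_sup_left_norm ((inf_le_left.trans h2).trans h.nV)).1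
      (le_sup_idx h1 a2 hu)
    exact ⟨v, hv, z, hz.2, e⟩
  have a4 : ∀ v z t, z ∈ 𝐂(R) → t ∈ R → ⁅t, v * z⁆ = ⁅t, v⁆ := fun v z t hz ht => by
    have b := BG.mem_cent.1 hz t⁻¹ (inv_mem ht)
    rw [commutatorElement_def, commutatorElement_def]
    calc t * (v * z) * t⁻¹ * (v * z)⁻¹ = t * v * (z * t⁻¹) * (v * z)⁻¹ := by group
      _ = _ := by rw [← b]; group
  refine ⟨⟨h3, h2, h4, ?_, fun e => h.nc (h1.trans e), ?_, fun u hu t ht e => ?_⟩,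
    fun x hx => h1 (h.cg x ⟨hx.1, cent_anti h1 hx.2⟩), fun u hu t ht e => ?_⟩
  · rw [commutator_comm]
    refine commutator_le.2 fun t ht u hu => ?_
    obtain ⟨v, hv, z, hz, rfl⟩ := a3 u hu
    rw [a4 v z t hz ht]
    exact h.quad (by rw [commutator_comm]; exact commutator_mem_commutator ht hv)
  · rw [a2.antisymm (relIndex_le_of_le_right h1 index_ne_zero_of_finite), h.idx]
    refine (relIndex_le_of_le_left (cent_anti h1) index_ne_zero_of_finite).antisymm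
      ((relIndex_le_of_le_left h5 index_ne_zero_of_finite).trans (inf_relIndex_left _ _).le)
  · obtain ⟨v, hv, z, hz, rfl⟩ := a3 u hu
    rw [← commutatorElement_eq_one_iff_mul_comm, a4 v z t hz ht, commutatorElement_eq_one_iff_mul_comm] at e
    exact (h.ti v hv t ht e).imp (fun a => h5 ⟨ht, a⟩) fun a => mul_mem a hz
  · obtain ⟨v, hv, z, hz, rfl⟩ := a3 u hu
    rw [a4 v z t hz ht] at e
    exact (h.nd v hv t ht e).imp (fun a => h5 ⟨ht, a⟩) fun a => mul_mem a hz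

end Cfsg.Lib.FQ
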