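import Cfsg.Agent.Lib.FQ.Bar
import Cfsg.Agent.Lib.FQ.Pair

/-!
# Lifting the block
-/

set_option autoImplicit false
set_option linter.unusedSectionVars false

namespace Cfsg.Lib.FQ

open Subgroup Cfsg.Lib.BG Cfsg.Lib.Transfer Cfsg.Lib.Loc Cfsg.Lib.PLocal Cfsg.Lib.CGT Cfsg.Lib.PU
open Cfsg.Lib.CS
open scoped commutatorElement

universe u

variable {G : Type u} [Group G] [Finite G] {M P T : Subgroup G} {I : Subgroup G → Prop}

/-- `C = 𝐂(𝐐 ⊤) ≤ M` is normal, so `T ⊓ C ≤ 𝐐 ⊤` (`PMin.inf_le_core`) is a central Sylow subgroup of `C`, and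
`O = 𝐑 C` has odd order (Burnside transfer or Schur-Zassenhaus; `C = (T ⊓ C) × O`). -/
theorem exists_odd (h : PMin 2 T M ⊤) (hc : 𝐂(𝐐 ⊤) ≤ M) :
    ∃ O : Subgroup G, O.Normal ∧ Odd (Nat.card O) ∧ O ≤ 𝐂(𝐐 ⊤) ∧ 𝐂(𝐐 ⊤) ≤ 𝐐 ⊤ ⊔ O := by
  have n : (⊤ : Subgroup G) ≤ 𝐍(𝐂(𝐐 (⊤ : Subgroup G))) := norm_cent (le_normalizer_core 2 ⊤)
  have a : T ⊓ 𝐂(𝐐 ⊤) ≤ 𝐐 ⊤ := (inf_comm T _).le.trans (h.inf_le_core hc n)
  have s := Burnside_normal_complement (Syl.iff.2 (SylIn.inf_norm ⟨le_top, h.pgroup, h.syl⟩ le_top n))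
    (inf_le_left.trans (cent_anti a))
  exact ⟨_, Core.normal_of_top_le_normalizer (norm_pcore n _), Nat.coprime_two_right.1 (pcore_pi _ _).coprime_p,
    pcore_le _ _, s.sup.ge.trans (sup_le le_sup_right (a.trans le_sup_left))⟩

section bar
variable {H : Type*} [Group H] [Finite H] {f : G →* H} (hf : Function.Surjective f)
  (ho : Odd (Nat.card f.ker)) (h1 : f.ker ≤ M)
include ho

omit [Finite H] in
theorem inf_ker {U : Subgroup G} (hU : IsPGroup 2 U) : U ⊓ f.ker = ⊥ := by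
  obtain ⟨k, hk⟩ := IsPGroup.iff_card.1 hU
  exact disjoint_of_coprime (hk ▸ (Nat.coprime_two_left.2 ho).pow_left k)

theorem le_of_map {U Y : Subgroup G} (hY : IsPGroup 2 Y) (h1 : U ≤ Y) : Y ⊓ (U.map f).comap f ≤ U := by
  rw [comap_map_eq, inf_comm, sup_comm, modular_right h1 le_normalizer_of_normal, inf_comm, inf_ker ho hY,
    bot_sup_eq]

theorem cent_of {U Y : Subgroup G} {x : G} (hY : IsPGroup 2 Y) (h1 : ∀ a ∈ U, ⁅a, x⁆ ∈ Y)
    (e : f x ∈ 𝐂(U.map f)) : x ∈ 𝐂(U) := BG.mem_cent.2 fun a ha =>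
  commutatorElement_eq_one_iff_mul_comm.1 (mem_bot.1 (inf_ker ho hY ▸ mem_inf.2 ⟨h1 a ha, by
    rw [MonoidHom.mem_ker, map_commutatorElement]
    exact commutatorElement_eq_one_iff_mul_comm.2 (BG.mem_cent.1 e _ (mem_map_of_mem f ha))⟩))

theorem cent_of' {U Y : Subgroup G} {x : G} (hY : IsPGroup 2 Y) (h1 : U ≤ Y) (hx : x ∈ Y)
    (e : f x ∈ 𝐂(U.map f)) : x ∈ 𝐂(U) :=
  cent_of ho hY (fun _ ha => mul_mem (mul_mem (mul_mem (h1 ha) hx) (inv_mem (h1 ha))) (inv_mem hx)) e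

theorem map_inf_cent' {U Y : Subgroup G} (hY : IsPGroup 2 Y) (h1 : U ≤ Y) :
    (Y ⊓ 𝐂(U)).map f = Y.map f ⊓ 𝐂(U.map f) :=
  le_antisymm (le_inf (map_mono inf_le_left) (map_cent f inf_le_right))
    fun _ ⟨⟨x, hx, e⟩, h⟩ => ⟨x, ⟨hx, cent_of' ho hY h1 hx (e ▸ h)⟩, e⟩

/-- Frattini argument in `U ⊔ f.ker`. -/
theorem comap_norm {U : Subgroup G} (hU : IsPGroup 2 U) : 𝐍(U.map f).comap f ≤ 𝐍(U) ⊔ f.ker := by
  intro x hx
  have a : x ∈ 𝐍((U.map f).comap f) := mem_normalizer_of_conj_le (conj_le_iff.2 fun u hu => by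
    rw [mem_comap, map_mul, map_mul, map_inv]; exact conj_mem_of_norm hx hu)
  obtain ⟨n, hn, e⟩ := frattini_argument (le_comap_map f U) hU (not_dvd_relIndex_of_maximal (le_comap_map f U) hU
    fun Y hY b c => (le_inf le_rfl c).trans (le_of_map ho hY b)) le_rfl a
  rw [comap_map_eq] at hn
  exact (mul_mem_cancel_left (sup_le_sup_right (le_norm U) _ hn)).1 (mem_sup_left e)

theorem map_thompson (hT : IsPGroup 2 T) : (𝐉 T).map f = 𝐉 (T.map f) := by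
  conv_lhs => rw [← Core.map_subtype_top T, ← map_thompsonSubgroupOf T.subtype_injective, map_map,
    map_thompsonSubgroupOf (injective_comp_subtype (inf_ker ho hT)), ← map_map, Core.map_subtype_top]

theorem map_baum' (hT : IsPGroup 2 T) : (𝐁 T).map f = 𝐁 (T.map f) := by
  conv_lhs => rw [← Core.map_subtype_top T, ← map_baum T.subtype_injective, map_map,
    map_baum (injective_comp_subtype (inf_ker ho hT)), ← map_map, Core.map_subtype_top]

/-- `f` is injective on the 2-group `R`; pull back along `f ∘ R.subtype`. `g` normalizes `R ⊓ 𝐂(V)`, so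
`⁅x, g⁆ ∈ R ⊓ (V ⊔ f.ker) = V`. -/
theorem Bq.of_map {R V : Subgroup G} {g : G} (hR : IsPGroup 2 R) (hV : V ≤ R)
    (h : Bq (R.map f) (V.map f) (f g)) (hg : g ∈ 𝐍(R ⊓ 𝐂(V))) : Bq R V g := by
  have a : Tq R V := by
    have := h.toTq
    rw [← map_subgroupOf_eq_of_le hV, map_map] at this
    nth_rw 1 [← Core.map_subtype_top R] at this
    rw [map_map, tq_map (injective_comp_subtype (inf_ker ho hR)), ← tq_map R.subtype_injective,
      Core.map_subtype_top, map_subgroupOf_eq_of_le hV] at this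
    exact this
  refine ⟨a, fun x hx => le_of_map ho hR hV (mem_inf.2 ⟨?_, ?_⟩), fun v hv t ht e => ?_⟩
  · rw [commutatorElement_def, mul_assoc, mul_assoc, ← mul_assoc g]
    exact mul_mem hx.1 (conj_mem_of_norm hg (inv_mem hx)).1
  · rw [mem_comap, map_commutatorElement]
    exact h.cg _ ((map_inf_cent' ho hR hV).le (mem_map_of_mem f hx))
  · refine (h.nd _ (mem_map_of_mem f hv) _ (mem_map_of_mem f ht) (mem_cent1.2 ?_)).imp
      (cent_of' ho hR hV ht) (cent_of' ho hR le_rfl (hV hv))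
    rw [← map_commutatorElement, ← map_mul, mem_cent1.1 e, map_mul]

include hf h1

/-- The preimage `N` of `𝐐 ⊤` is `(T ⊓ N) ⊔ f.ker ≤ M`, so `T ⊓ N ≤ 𝐐 ⊤`. -/
theorem map_core' (h : PMin 2 T M ⊤) : (𝐐 ⊤).map f = 𝐐 ⊤ := by
  have t := map_top_of_surjective f hf
  refine le_antisymm (t ▸ map_core_le f ⊤) fun x hx => ?_
  have a : 𝐐 ⊤ ≤ T.map f := core_le_of_not_dvd (t ▸ not_dvd_relIndex_map f h.syl)
  obtain ⟨y, hy, rfl⟩ := a hx
  haveI := Core.normal_of_top_le_normalizer (le_normalizer_core 2 (⊤ : Subgroup H))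
  refine mem_map_of_mem f (h.inf_le_core (N := (𝐐 ⊤).comap f) ((comap_mono a).trans ?_)
    le_normalizer_of_normal ⟨hx, hy⟩)
  rw [comap_map_eq]
  exact sup_le h.le h1

omit [Finite H] ho in
theorem le_map_of {K : Subgroup H} (h : K.comap f ≤ M) : ⊤ ⊓ K ≤ M.map f :=
  inf_le_right.trans (map_comap_eq_self_of_surjective hf K ▸ map_mono h)

theorem norm_le_map {U : Subgroup G} (hU : IsPGroup 2 U) (h : ⊤ ⊓ 𝐍(U) ≤ M) : ⊤ ⊓ 𝐍(U.map f) ≤ M.map f :=
  le_map_of hf h1 ((comap_norm ho hU).trans (sup_le ((le_inf le_top le_rfl).trans h) h1))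

/-- With `I' Q := I (𝐁 T ⊓ Q.comap f)`; use `PMin.map`, `comap_norm`, `ch_map`. For `cz`: if `f x`
centralizes the image of `Z = 𝐘 ⊤ ⊓ 𝐂(T)` then `⁅x, Z⁆ ≤ 𝐐 ⊤ ⊓ f.ker = ⊥`. -/
theorem Pre.map (h : Pre T M ⊤ I) : Pre (T.map f) (M.map f) ⊤ fun Q => I (𝐁 T ⊓ Q.comap f) := by
  have t := map_top_of_surjective f hf
  have p := h.pm.pgroup
  have pb : IsPGroup 2 (𝐁 T) := p.to_inf_left
  have e : ∀ {Q : Subgroup H}, Q ≤ 𝐁 (T.map f) → (𝐁 T ⊓ Q.comap f).map f = Q := fun {Q} a =>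
    le_antisymm (map_le_iff_le_comap.2 inf_le_right) fun x hx => by
      obtain ⟨y, hy, rfl⟩ := (map_baum' ho p).ge (a hx)
      exact ⟨y, ⟨hy, hx⟩, rfl⟩
  have pm : PMin 2 (T.map f) (M.map f) ⊤ := t ▸ h.pm.map f (inf_le_right.trans h1) fun a =>
    h.pm.not_le ((map_le_iff_le_comap.1 a).trans ((comap_norm ho p).trans (sup_le
      (h.pm.uniq _ (le_norm T) (lt_top_iff_ne_top.2 fun b => h.pm.not_normal b.ge)) h1)))
  refine ⟨pm, le_map_of hf h1 fun x hx => h.cz ⟨trivial, cent_of ho (core_pgroup 2 ⊤) (fun a ha =>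
    GC.comm_mem_l (oz_le _ ha.1) (le_normalizer_core 2 ⊤ (mem_top x))) (cent_anti ?_ hx)⟩,
    map_thompson ho p ▸ norm_le_map hf ho h1 (p.to_le (thompsonSubgroupOf_le T)) h.nj, ?_,
    fun Q C a b c d => h.i1 _ _ a (inf_le_inf_left _ (comap_mono b)) inf_le_left ?_, fun Q a b c => ?_⟩
  · refine le_inf (le_oz (elab_map (PGroup.elemAb_of_le (oz_elemAb _) inf_le_left) f) ?_ ?_)
      (map_cent f inf_le_right) <;> rw [← map_core' hf ho h1 h.pm]
    · exact map_mono (inf_le_left.trans (oz_le _))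
    · exact map_cent f (inf_le_left.trans (oz_le_centralizer _))
  · rw [MonoidHom.comap_bot, inf_ker ho pb]; exact h.i0
  · rw [← ch_map (inf_ker ho pb) inf_le_left inf_le_left, e c, e (b.trans c), map_baum' ho p]; exact d
  · rw [← e a]
    refine norm_le_map hf ho h1 pb.to_inf_left (h.i2 _ inf_le_left b (le_inf inf_le_left
      (map_le_iff_le_comap.1 (le_trans ?_ c))))
    rw [map_inf_cent' ho pb inf_le_left, e a, map_baum' ho p]

/-- `V = 𝐁 T ⊓ V'.comap f`; `g'` normalizes `𝐁 T' ⊓ 𝐂(V')` (`Bq.mem_norm`), the image of `𝐁 T ⊓ 𝐂(V)`, so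
`comap_norm` gives a preimage `g ∈ 𝐍(𝐁 T ⊓ 𝐂(V))`. `V ≤ T ⊓ (𝐐 ⊤ ⊔ f.ker) = 𝐐 ⊤`. -/
theorem Post.of_map (h : PMin 2 T M ⊤) {V' : Subgroup H} {g' : H} (k : Post (T.map f) (M.map f) ⊤ V' g') :
    ∃ V g, Post T M ⊤ V g := by
  have p := h.pgroup
  have pb : IsPGroup 2 (𝐁 T) := p.to_inf_left
  have q := map_core' hf ho h1 h
  have e : (𝐁 T ⊓ V'.comap f).map f = V' :=
    le_antisymm (map_le_iff_le_comap.2 inf_le_right) fun x hx => by
      obtain ⟨y, hy, rfl⟩ := (map_baum' ho p).ge (k.bq.le hx)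
      exact ⟨y, ⟨hy, hx⟩, rfl⟩
  have v : 𝐁 T ⊓ V'.comap f ≤ 𝐁 T := inf_le_left
  generalize 𝐁 T ⊓ V'.comap f = V at e v
  subst e
  obtain ⟨x, rfl⟩ := hf g'
  have a := k.bq.mem_norm (le_inf k.bq.le (abelian_cent k.bq.el.1)) le_rfl
  rw [← map_baum' ho p, ← map_inf_cent' ho pb v] at a
  obtain ⟨g, hg, c, hc, rfl⟩ := (mem_sup_right_norm le_normalizer_of_normal).1 (comap_norm ho pb.to_inf_left a)
  rw [map_mul, show f c = 1 from hc, mul_one] at k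
  have b := Bq.of_map ho pb v (map_baum' ho p ▸ k.bq) hg
  have vq : V ≤ 𝐐 ⊤ := (le_inf (v.trans inf_le_left) (map_le_iff_le_comap.1 (q ▸ k.le.trans (oz_le _)))).trans
    (le_of_map ho p (core_le_of_not_dvd h.syl))
  refine ⟨V, g, trivial, fun a => k.gM (mem_map_of_mem f a), b, fun a => k.nc (map_thompson ho p ▸ map_cent f a),
    le_oz b.el vq fun x hx => cent_of' ho (core_pgroup 2 ⊤) le_rfl (vq hx)
      (q ▸ oz_le_centralizer _ (k.le (mem_map_of_mem f hx))), fun x hx => le_of_map ho (core_pgroup 2 ⊤) vq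
        (mem_inf.2 ⟨GC.comm_mem_l hx (le_normalizer_core 2 ⊤ (mem_top g)), ?_⟩)⟩
  rw [mem_comap, map_commutatorElement]
  exact k.cq _ (q ▸ mem_map_of_mem f hx)

end bar

/-- Pass to `G ⧸ O` with `O` from `exists_odd`; it has characteristic 2 since an element centralizing the
image of `𝐐 ⊤` has `⁅x, 𝐐 ⊤⁆ ≤ 𝐐 ⊤ ⊓ O = ⊥`. -/
theorem Pre.post_top (h : Pre T M ⊤ I) : ∃ V g, Post T M ⊤ V g := by
  have c : 𝐂(𝐐 ⊤) ≤ M := fun x hx => h.cz ⟨trivial, cent_anti (inf_le_left.trans (oz_le _)) hx⟩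
  obtain ⟨O, _, o1, o2, o3⟩ := exists_odd h.pm c
  have hf := QuotientGroup.mk'_surjective O
  have ho : Odd (Nat.card (QuotientGroup.mk' O).ker) := by rwa [QuotientGroup.ker_mk']
  have h1 : (QuotientGroup.mk' O).ker ≤ M := by rw [QuotientGroup.ker_mk']; exact o2.trans c
  obtain ⟨V, g, k⟩ := (h.map hf ho h1).post_chp fun x hx => by
    obtain ⟨x, rfl⟩ := hf x
    rw [← map_core' hf ho h1 h.pm] at hx ⊢
    have := o3 (cent_of ho (core_pgroup 2 ⊤) (fun a ha => GC.comm_mem_l ha (le_normalizer_core 2 ⊤ (mem_top x)))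
      hx.2)
    rwa [← Core.comap_map_mk'] at this
  exact k.of_map hf ho h1 h.pm

end Cfsg.Lib.FQ
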