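import Cfsg.Agent.Lib.FQ.Defs

/-!
# First consequences of the definitions
-/

set_option autoImplicit false
set_option linter.unusedSectionVars false

namespace Cfsg.Lib.FQ

open Subgroup Cfsg.Lib.BG Cfsg.Lib.Transfer Cfsg.Lib.Loc Cfsg.Lib.PLocal Cfsg.Lib.CGT Cfsg.Lib.PU
open Cfsg.Lib.CS
open scoped commutatorElement

variable {G : Type*} [Group G] [Finite G] {B E J K S T U W Y Z : Subgroup G} {c g x y : G}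

omit [Finite G] in
theorem Lo.conj (h : Lo S y) (c : G) : Lo (c ⋆ S) (c * y * c⁻¹) := by
  have o : orderOf (c * y * c⁻¹) = orderOf y := (MulAut.conj c).orderOf_eq y
  refine ⟨h.syl.conj_mem (mem_top c), ?_, o ▸ h.pr, o ▸ h.odd, ?_, fun d U T hU h0 hd hT =>
    h.loc (d * c) U T hU h0 (by convert hd using 1; group) hT⟩
  · rw [← conj_normalizer]; exact conj_mem_conj.2 h.nS
  · rw [← conj_cent1, ← conj_inf, h.fpf, Subgroup.map_bot]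

omit [Finite G] in
theorem Cf.conj (h : Cf Z W T) (c : G) : Cf (c ⋆ Z) (c ⋆ W) (c ⋆ T) := by
  refine ⟨isPGroup_conj h.pg c, conj_mono c h.le, ?_, ?_, fun e => h.nle ?_⟩
  · rw [← conj_normalizer]; exact h.syl.conj c
  · rw [← conj_centralizer]; exact conj_mono c h.cz
  · rwa [← conj_normalizer, ← conj_normalizer, conj_le_conj_iff] at e

theorem Lo.exists_le (h : Lo S y) (hY : IsPGroup 2 Y) : ∃ c, Y ≤ c ⋆ S :=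
  (SylIn.exists_le h.syl hY le_top).imp fun _ => And.right

/-- `𝐍(Y) ⊓ T > Y` unless `Y = T`. -/
theorem eq_of_norm_le (hT : IsPGroup 2 T) (h1 : Y ≤ T) (h2 : T ⊓ 𝐍(Y) ≤ Y) : Y = T := by_contra fun n => (lt_inf_normalizer_of_lt hT (lt_of_le_of_ne h1 n)).not_ge h2

/-- Take a Sylow subgroup `U ≥ T` of `K`; `U ⊓ 𝐍(T) ≤ 𝐍(J) ⊓ 𝐍(E)` is a 2-group over `T`. -/
theorem syl_up (hT : SylIn 2 T (𝐍(J) ⊓ 𝐍(E))) (hJ : 𝐉 T = J) (h1 : T ≤ K) (h2 : K ⊓ 𝐍(J) ≤ 𝐍(E)) :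
    SylIn 2 T K := by
  obtain ⟨U, h3, hU⟩ := exists_sylIn_ge hT.2.1 h1
  have a : U ⊓ 𝐍(T) ≤ 𝐍(J) := inf_le_right.trans (hJ ▸ normalizer_le_normalizer_thompsonSubgroupOf T)
  rwa [eq_of_norm_le hU.2.1 h3 (hT.eq_of_le (hU.2.1.to_le inf_le_left) (le_inf a ((le_inf
    (inf_le_left.trans hU.1) a).trans h2)) (le_inf h3 (le_norm T))).ge]

/-- `𝐉 Y = 𝐉 T` and `𝐁 Y = Y ⊓ 𝐂(zj T)`. -/
theorem baum_eq_of_between (h1 : 𝐁 T ≤ Y) (h2 : Y ≤ T) : 𝐁 Y = 𝐁 T := by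
  have e : zj 2 Y = zj 2 T := by
    rw [zj, centerThompsonOf_eq_of_le ((thompson_le_baum T).trans h1) h2]
  rw [baum, e]
  exact le_antisymm (inf_le_inf_right _ h2) (le_inf h1 inf_le_right)

omit [Finite G] in
theorem mem_norm_conj (h : x ∈ 𝐍(S)) (c : G) : c * x * c⁻¹ ∈ 𝐍(c ⋆ S) := by
  rw [← conj_normalizer]; exact conj_mem_conj.2 h

theorem syl_norm_le (hW : IsPGroup 2 W) (hT : SylIn 2 T 𝐍(W)) : W ≤ T :=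
  le_sup_left.trans (hT.eq_of_le (pgroup_sup hW hT.2.1 hT.1) (sup_le_norm_left hT.1) le_sup_right).ge

theorem Cf.W_le (h : Cf Z W T) : W ≤ T := syl_norm_le h.pg h.syl

theorem le_J_of_cent (hZ : IsElementaryAbelian 2 Z) (h1 : Z ≤ T) (h2 : T ≤ 𝐂(Z)) : Z ≤ 𝐉 T := by
  obtain ⟨A, hA⟩ := exists_mem_maxIn 2 T
  exact fun z hz => le_thompsonSubgroupOf hA (mem_of_mem_maxIn hA (h1 hz) (cent_symm (hA.1.trans h2) hz) (hZ.2 z hz))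

theorem Cf.Z_le (h : Cf Z W T) (hZ : IsElementaryAbelian 2 Z) : Z ≤ 𝐉 T :=
  le_J_of_cent hZ (h.le.trans h.W_le) h.cz

omit [Finite G] in
theorem Cf.Z_ne (h : Cf Z W T) : Z ≠ ⊥ := by
  rintro rfl; exact h.nle (le_top.trans norm_bot.ge)

omit [Finite G] in
theorem inv_mul_norm (e : x ⋆ T = c ⋆ T) : c⁻¹ * x ∈ 𝐍(T) :=
  norm_of_conj_eq (by rw [← conj_conj, e, inv_conj_conj])

namespace Xt

variable (h : Xt S y J B)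
include h

theorem exists_cf : ∃ W T, Cf (𝛀 S) W T ∧ 𝐉 T = J ∧ 𝐁 T = B :=
  let ⟨W, T, a, b⟩ := h.ex; ⟨W, T, a, h.jj W T a (h.JB.trans b), h.bb W T a b⟩

theorem pgB : IsPGroup 2 B := let ⟨_, _, c, _, e⟩ := h.exists_cf; e ▸ c.syl.2.1.to_le inf_le_left

theorem pgJ : IsPGroup 2 J := h.pgB.to_le h.JB

theorem JJ : 𝐉 J = J := by
  obtain ⟨_, T, -, rfl, -⟩ := h.exists_cf
  exact thompsonSubgroupOf_eq_of_le le_rfl (thompsonSubgroupOf_le T)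

theorem JB' : 𝐉 B = J := by
  obtain ⟨_, T, -, rfl, rfl⟩ := h.exists_cf
  exact thompsonSubgroupOf_eq_of_le (thompson_le_baum T) inf_le_left

theorem B_norm : B ≤ 𝐍(J) := (le_norm B).trans (h.JB' ▸ normalizer_le_normalizer_thompsonSubgroupOf B)

theorem nB : 𝐍(B) ≤ 𝐍(J) := h.JB' ▸ normalizer_le_normalizer_thompsonSubgroupOf B

/-- `Z ≤ W ≤ T` is elementary and central in `T`, so it lies in every member of `maxIn 2 T`. -/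
theorem Z_le : 𝛀 S ≤ J := let ⟨_, _, c, e, _⟩ := h.exists_cf; e ▸ c.Z_le (oz_elemAb S)

theorem Z_ne : 𝛀 S ≠ ⊥ := let ⟨_, _, c, _⟩ := h.exists_cf; c.Z_ne

/-- G0. `Y ≤ c ⋆ S` is centralized by `c ⋆ Z`, and `c ∈ 𝐍(Z)` by `g1`. -/
theorem cent (hY : IsPGroup 2 Y) (h1 : J ≤ Y) : Y ≤ 𝐂(𝛀 S) := by
  obtain ⟨c, hc⟩ := h.toLo.exists_le hY
  have a : c ⋆ 𝛀 S ≤ 𝐂(Y) := by rw [conj_oz]; exact (oz_le_centralizer _).trans (cent_anti hc)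
  have b := conj_eq_of_norm (h.g1 c (a.trans (cent_anti h1)))
  exact cent_symm (b ▸ a)

theorem nJ : 𝐍(J) ≤ 𝐍(𝛀 S) := fun n hn => h.g1 n (conj_le_of_norm (cent_symm (h.cent h.pgJ le_rfl)) (norm_cent le_rfl hn))

/-- A 2-group over `J`: `n ⋆ Z ≤ 𝐂(n ⋆ Y)`. -/
theorem norm_le (hY : IsPGroup 2 Y) (h1 : J ≤ Y) : 𝐍(Y) ≤ 𝐍(𝛀 S) := fun n hn => h.g1 n ((conj_le_of_norm (cent_symm (h.cent hY h1)) (norm_cent le_rfl hn)).trans (cent_anti h1))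

/-- L2. Take a Sylow subgroup `T ≥ J` of `𝐍(U)`. For `n ∈ 𝐍(U)`, `n ⋆ T = k ⋆ T` with `k ∈ 𝐂(U) ≤ 𝐂(Z)`,
and `k⁻¹ n ∈ 𝐍(T) ≤ 𝐍(Z)` by `norm_le`. -/
theorem l2 (hU : IsPGroup 2 U) (h1 : 𝛀 S ≤ U) (h2 : J ≤ 𝐍(U)) (h3 : c * y * c⁻¹ ∈ 𝐍(U)) :
    𝐍(U) ≤ 𝐍(𝛀 S) := fun n hn => by
  obtain ⟨T, h4, hT⟩ := exists_sylIn_ge h.pgJ h2
  obtain ⟨k, hk, e⟩ := h.loc c U T hU (ne_bot_mono h.Z_ne h1) h3 hT n hn
  exact (mul_mem_cancel_left (inv_mem (cent_le_norm _ (cent_anti h1 hk)))).1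
    (h.norm_le hT.2.1 h4 (inv_mul_norm e))

/-- G2. -/
theorem exists_ge (hU : IsPGroup 2 U) (h1 : 𝛀 S ≤ U) (hY : IsPGroup 2 Y) (h2 : J ≤ Y) (h3 : Y ≤ 𝐍(U))
    (h4 : ¬ 𝐍(U) ≤ 𝐍(𝛀 S)) : ∃ T, Y ≤ T ∧ Cf (𝛀 S) U T := by
  obtain ⟨T, h5, hT⟩ := exists_sylIn_ge hY h3
  exact ⟨T, h5, hU, h1, hT, h.cent hT.2.1 (h2.trans h5), h4⟩

/-- Suppose not. `Z ≤ B ⊓ 𝐂(Q) ≤ Q`. Take `B ≤ c ⋆ S =: S'` and `Y = S' ⊓ 𝐍(B) ≤ 𝐍(Q)`; `exists_ge` and `bb`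
give `T ≥ Y` with `𝐁 T = B`, so `𝐁 Y = B` (`baum_eq_of_between`), `S' ⊓ 𝐍(Y) ≤ Y`, `Y = S'`, and
`c y c⁻¹ ∈ 𝐍(S') ≤ 𝐍(B) ≤ 𝐍(Q)`; now `l2` (`J ≤ B ≤ 𝐍(B) ≤ 𝐍(Q)`). -/
theorem i2 {Q : Subgroup G} (h1 : Q ≤ B) (h2 : 𝐍(B) ≤ 𝐍(Q)) (h3 : B ⊓ 𝐂(Q) ≤ Q) : 𝐍(Q) ≤ 𝐍(𝛀 S) := by
  by_contra hn
  have hQ := h.pgB.to_le h1
  have z : 𝛀 S ≤ Q := (le_inf (h.Z_le.trans h.JB) ((cent_symm (h.cent h.pgB h.JB)).trans (cent_anti h1))).trans h3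
  obtain ⟨c, hc⟩ := h.toLo.exists_le h.pgB
  have l := h.toLo.conj c
  have b : B ≤ c ⋆ S ⊓ 𝐍(B) := le_inf hc (le_norm B)
  obtain ⟨T, h5, hT⟩ := h.exists_ge hQ z (l.syl.2.1.to_le inf_le_left) (h.JB.trans b) (inf_le_right.trans h2) hn
  have e := h.bb _ _ hT (b.trans h5)
  have e2 : 𝐍(c ⋆ S ⊓ 𝐍(B)) ≤ 𝐍(B) := by
    have := normalizer_le_baum (e := 2) (c ⋆ S ⊓ 𝐍(B))
    rwa [baum_eq_of_between (e.le.trans b) h5, e] at this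
  have e3 := eq_of_norm_le l.syl.2.1 inf_le_left (inf_le_inf_left _ e2)
  exact hn (h.l2 hQ z (h.JB.trans ((le_norm B).trans h2)) (h2 (e2 (e3.symm ▸ l.nS))))

end Xt

end Cfsg.Lib.FQ
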