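import Cfsg.Agent.Lib.FQ.Pu1

/-!
# A family of pairs of involutions in a 2-group, II
-/

set_option autoImplicit false
set_option linter.unusedSectionVars false

namespace Cfsg.Lib.FQ

open Subgroup Cfsg.Lib.BG Cfsg.Lib.Transfer Cfsg.Lib.Loc Cfsg.Lib.PLocal Cfsg.Lib.CGT Cfsg.Lib.PU
open Cfsg.Lib.CS
open scoped commutatorElement

variable {G : Type*} [Group G] [Finite G] {N S : Subgroup G} {P : G → G → Prop}
  {c₁ c₂ t u u₁ u₂ y z z₁ z₂ : G}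

/-- Copy of `CharDeg.Pet.mem_of_fpf`. -/
theorem mem_of_fpf {n : ℕ} (hf : y ∈ 𝐍(S)) (h1 : y ^ (n + 1) = 1) (h2 : S ⊓ 𝐂[y] = ⊥) (ht : t ∈ S)
    (h3 : ∀ k < n, y ^ (k + 1) * t * (y ^ (k + 1))⁻¹ ∈ N) : t ∈ N := by
  let φ := S.normalizerMonoidHom ⟨y, hf⟩
  have it : ∀ k (g : S), ((φ^[k] g : S) : G) = y ^ k * g * (y ^ k)⁻¹ := fun k g => by
    induction k with
    | zero => simp
    | succ k ih =>
      rw [Function.iterate_succ_apply']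
      change y * (φ^[k] g : S) * y⁻¹ = _
      rw [ih]; group
  have h4 := MonoidHom.FixedPointFree.prod_pow_eq_one (φ := φ) (fun g hg => Subtype.ext (mem_bot.1 (h2 ▸
    mem_inf.2 ⟨g.2, mem_cent1.2 (mul_inv_eq_iff_eq_mul.1 (congrArg Subtype.val hg)).symm⟩))) (n := n + 1)
    (funext fun g => Subtype.ext (by rw [it, h1]; simp)) ⟨t, ht⟩
  rw [List.range_succ_eq_map, List.map_cons, List.prod_cons, mul_eq_one_iff_eq_inv] at h4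
  change (⟨t, ht⟩ : S) = _ at h4
  refine mem_subgroupOf.1 (show (⟨t, ht⟩ : S) ∈ N.subgroupOf S from h4.symm ▸ inv_mem (list_prod_mem fun x hx => ?_))
  simp only [List.mem_map, List.mem_range] at hx
  obtain ⟨_, ⟨k, hk, rfl⟩, rfl⟩ := hx
  rw [mem_subgroupOf, it]
  exact h3 k hk

namespace Pw

variable (h : Pw S P)
include h

theorem exists_cz (a : P z u) : ∃ c, Cz P z c := let ⟨w, c, e, _⟩ := h.nb _ _ a; ⟨_, u, w, a, c, e, rfl⟩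

theorem cz_act {c x : G} (a : Cz P z c) (hx : x ∈ S) (e : x * z = z * x) : x * c = c * x ∨ x * c = c * z * x := by
  have := h.cz_cj a (le_norm S hx)
  rw [e, mul_inv_cancel_right] at this
  exact (h.cz_eq a this).imp mul_inv_eq_iff_eq_mul.1 mul_inv_eq_iff_eq_mul.1

section
variable (ne : z₁ ≠ z₂) (e : z₁ * z₂ = z₂ * z₁)
include ne e

/-- L3a. An element of `S ⊓ 𝐂[z₂]` maps `c₂` to `c₂` or `c₂ z₂ = c₂⁻¹` (`cz_cj`, `cz_eq`). Suppose `z₁` inverts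
`c₂`; then `c₂` fixes `z₂` and swaps `z₁`, `z₁ z₂`. If `z₂` inverts `c₁` then `c₁` fixes `z₁` and swaps `z₂`,
`z₁ z₂`, so `x = c₁ c₂` permutes the three involutions cyclically, impossible for a 2-element
(`x³` centralizes `z₁`, hence so does `x`). So `c₁ ∈ 𝐂[z₂]` maps `c₂` to `c₂^{±1}` and `z₁ = c₁²` centralizes
`c₂`. -/
theorem l3a (a₁ : Cz P z₁ c₁) (a₂ : Cz P z₂ c₂) : z₁ * c₂ = c₂ * z₁ := by
  obtain ⟨s₁, q₁, i₁, -⟩ := h.cz_sq a₁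
  obtain ⟨s₂, q₂, i₂, n₂⟩ := h.cz_sq a₂
  refine (h.cz_act a₂ (q₁ ▸ mul_mem s₁ s₁) e).resolve_right fun k => ?_
  rcases h.cz_act a₁ (q₂ ▸ mul_mem s₂ s₂) e.symm with k' | k'
  · refine n₂ (mul_eq_left.1 (mul_right_cancel (k.symm.trans ?_)))
    rcases h.cz_act a₂ s₁ k'.symm with q | q
    · rw [← q₁, mul_assoc, q, ← mul_assoc, q, mul_assoc]
    · rw [← q₁, mul_assoc, q, ← mul_assoc, ← mul_assoc, q, mul_assoc _ c₁, ← k', ← mul_assoc, mul_assoc c₂, i₂, mul_one, mul_assoc]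
  have c₁z : z₁ * c₁ = c₁ * z₁ := by rw [← q₁, mul_assoc]
  have c₂z : z₂ * c₂ = c₂ * z₂ := by rw [← q₂, mul_assoc]
  have x1 : z₁ * (c₁ * c₂) = c₁ * c₂ * (z₂ * z₁) := by rw [← mul_assoc, c₁z, mul_assoc, k]; group
  have x2 : z₂ * (c₁ * c₂) = c₁ * c₂ * z₁ := by
    rw [← mul_assoc, k', mul_assoc, c₂z, mul_assoc c₁, ← mul_assoc z₁, k, mul_assoc _ z₁, e, mul_assoc c₂, ← mul_assoc z₂, i₂,
      one_mul, mul_assoc]
  have x3 : z₂ * z₁ * (c₁ * c₂) = c₁ * c₂ * z₂ := by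
    rw [mul_assoc, x1, ← mul_assoc, x2, ← e, mul_assoc, ← mul_assoc z₁, i₁, one_mul]
  obtain ⟨j, hj⟩ := h.pg ⟨_, mul_mem s₁ s₂⟩
  have : c₁ * c₂ ∈ 𝐂[z₁] := Transfer.mem_of_pow_mem_of_coprime (n := 3) (mem_cent1.2 (by
    generalize c₁ * c₂ = x at x1 x2 x3
    rw [pow_three, ← mul_assoc z₁, x1, mul_assoc x (z₂ * z₁), ← mul_assoc (z₂ * z₁), x3, mul_assoc x z₂, x2]; group))
    (((show Nat.Coprime 2 3 by decide).pow_left j).coprime_dvd_left (orderOf_dvd_of_pow_eq_one (congrArg Subtype.val hj)))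
  rw [← mem_cent1.1 this, mul_right_inj, right_eq_mul] at x1
  exact n₂ x1

/-- L3b: `cent_of` with `b = z₂`. -/
theorem l3b (a₁ : P z₁ u₁) (a₂ : P z₂ u₂) : z₂ * u₁ = u₁ * z₂ := 
  let ⟨_, c₁⟩ := h.exists_cz a₁
  h.cent_of c₁ (h.mem _ _ a₂).1 (h.mem _ _ a₂).2.2.1 e.symm
    (let ⟨_, c₂⟩ := h.exists_cz a₂; h.l3a ne.symm e.symm c₂ c₁) a₁

/-- L3c. Otherwise `u₁` inverts `c₂`, so `c₂ u₁ c₂⁻¹ = u₁ z₂` and `P z₁ (u₁ z₂)`; `l1` gives `z₂ ∈ {1, z₁}`. -/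
theorem l3c (a₁ : P z₁ u₁) (a₂ : Cz P z₂ c₂) : u₁ * c₂ = c₂ * u₁ := by
  obtain ⟨u₂, -, k, -⟩ := id a₂
  obtain ⟨s₂, -, -, n₂⟩ := h.cz_sq a₂
  have e1 := h.l3b ne e a₁ k
  refine (h.cz_act a₂ (h.mem _ _ a₁).2.1 e1.symm).resolve_right fun q => ?_
  obtain ⟨_, c₁⟩ := h.exists_cz a₁
  have := h.cjz a₁ (inv_mem s₂) (mem_cent1.1 (inv_mem (mem_cent1.2 (h.l3a ne e c₁ a₂).symm)))
  rw [inv_inv, mul_assoc, q, mul_assoc, inv_mul_cancel_left, e1] at this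
  rcases h.l1 a₁ this (by rw [mul_assoc, e1]) with q | q
  exacts [n₂ (mul_eq_left.1 q), ne (mul_left_cancel q).symm]

/-- L3d: `cent_of` with `b = u₁`. -/
theorem l3d (a₁ : P z₁ u₁) (a₂ : P z₂ u₂) : u₁ * u₂ = u₂ * u₁ := 
  let ⟨_, c₂⟩ := h.exists_cz a₂
  h.cent_of c₂ (h.mem _ _ a₁).2.1 (h.mem _ _ a₁).2.2.2.1 (h.l3b ne e a₁ a₂).symm (h.l3c ne e a₁ c₂) a₂

end

/-- L4. Take a noncommuting pair with `orderOf (z₁ z₂)` minimal; `z₁' = z₂ z₁ z₂` commutes with `z₁` (the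
product is `(z₁ z₂)²`), so `ζ = (z₁ z₂)² = z₁ z₁'` is an involution commuting with `z₁`, `z₂`, and
`z₂ ζ = z₁ z₂ z₁`. Let `u = u₁` with neighbour `w`, `ũ = z₂ u z₂`, so `P z₁' ũ`; by L3 for `(z₁, z₁')`, `ũ` and
`z₁'` commute with `u`, `w`, and `ζ` commutes with `u`. `v = u z₂ u` has `z₂ v = ũ u`, so `z₂, z₂ ζ, v, v ζ`
commute, are centres of pairs, and `z₂ ζ, v, v ζ ≠ z₂` (`ũ = u` or `ũ u = ζ`, that is `u z₁ = ũ z₁'`, would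
commute with `w`). By L3a, L3c each of them is a square `c²` with `c ∈ E(z₂, u₂)`, so their product `z₂` is
in `D(z₂, u₂)`. -/
theorem l4 (a₁ : P z₁ u₁) (a₂ : P z₂ u₂) : z₁ * z₂ = z₂ * z₁ := by
  obtain ⟨k, hk⟩ := h.pg ⟨_, mul_mem (h.mem _ _ a₁).1 (h.mem _ _ a₂).1⟩
  replace hk : (z₁ * z₂) ^ 2 ^ k = 1 := congrArg Subtype.val hk
  induction k generalizing z₂ u₂ with
  | zero => rw [pow_zero, pow_one] at hk; rw [hk, mul_eq_one_comm.1 hk]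
  | succ k ih =>
    obtain ⟨s₁, uS, i₁, u2, n₁, zu⟩ := h.mem _ _ a₁
    obtain ⟨s₂, -, i₂, -⟩ := h.mem _ _ a₂
    have a' := h.cj _ (le_norm S s₂) _ _ a₁
    rw [pu_inv i₂] at a'
    have c := ih a' (by rwa [pow_succ', pow_mul, pow_two, mul_assoc, ← mul_assoc z₂] at hk)
    by_contra n
    have ζ1 : z₁ * (z₂ * z₁ * z₂) ≠ 1 := fun q => n (pu_comm i₁ i₂ (by rw [← q]; group))
    have ne : z₁ ≠ z₂ * z₁ * z₂ := fun q => ζ1 (by rw [← q, i₁])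
    obtain ⟨w, aw, ew, -⟩ := h.nb _ _ a₁
    have nw : u₁ ∉ 𝐂[w] := fun q => n₁ (by rw [← ew, commutatorElement_eq_one_iff_mul_comm, mem_cent1.1 q])
    have c1 : Commute (z₂ * z₁ * z₂) u₁ := h.l3b ne c a₁ a'
    have c2 : Commute (z₂ * z₁ * z₂) w := h.l3b ne c aw a'
    have c3 : Commute u₁ (z₂ * u₁ * z₂) := h.l3d ne c a₁ a'
    have c4 : Commute w (z₂ * u₁ * z₂) := h.l3d ne c aw a'
    obtain ⟨D, nD, H⟩ := h.sq _ _ a₂
    have key : ∀ x ∈ S, x * z₂ * x⁻¹ ≠ z₂ → Commute (x * z₂ * x⁻¹) z₂ → x * z₂ * x⁻¹ ∈ D := fun x hx n e => by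
      obtain ⟨c, hc⟩ := h.exists_cz (h.cj _ (le_norm S hx) _ _ a₂)
      obtain ⟨_, c₂⟩ := h.exists_cz a₂
      rw [← (h.cz_sq hc).2.1]
      exact H c ⟨⟨(h.cz_sq hc).1, mem_cent1.2 (h.l3a n.symm e.symm c₂ hc).symm⟩, mem_cent1.2 (h.l3c n.symm e.symm a₂ hc).symm⟩
    have cζ : Commute (z₁ * (z₂ * z₁ * z₂)) z₂ := by
      change _ = _
      conv_rhs => rw [c]
      simp only [mul_assoc, i₂, mul_one]
      rw [← mul_assoc z₂ z₂, i₂, one_mul]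
    have cu : Commute (z₁ * (z₂ * z₁ * z₂)) u₁ := Commute.mul_left zu c1
    have cw : z₁ * (z₂ * z₁ * z₂) ∈ 𝐂[w] := mem_cent1.2 (Commute.mul_left (h.mem _ _ aw).2.2.2.2.2 c2)
    have E1 : z₁ * z₂ * z₁⁻¹ = z₁ * (z₂ * z₁ * z₂) * z₂ := by simp only [pu_inv i₁, mul_assoc, i₂, mul_one]
    have E2 : u₁ * z₂ * u₁⁻¹ * z₂ = u₁ * (z₂ * u₁ * z₂) := by simp only [pu_inv u2, mul_assoc]
    have cv : Commute (u₁ * z₂ * u₁⁻¹) z₂ := E2.trans (c3.eq.trans (by simp only [pu_inv u2, mul_assoc]))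
    generalize z₁ * (z₂ * z₁ * z₂) = ζ at *
    have E3 : u₁ * z₁ * z₂ * (u₁ * z₁)⁻¹ = ζ * (u₁ * z₂ * u₁⁻¹) := by
      rw [← mul_assoc, ← mul_assoc, cu.eq, mul_assoc u₁ ζ, ← E1]; group
    have m := mem_cent1.2 c4.eq.symm
    have d1 := key z₁ s₁ (by rwa [E1, Ne, mul_eq_right]) (E1 ▸ cζ.mul_left (.refl _))
    have d2 := key u₁ uS (fun q => nw ((mul_mem_cancel_right m).1 (by rw [← E2, q, i₂]; exact one_mem _))) cv
    have d3 := key _ (mul_mem uS s₁) (fun q => nw ((mul_mem_cancel_right m).1 ((mul_mem_cancel_left cw).1 (by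
      rw [← E2, ← mul_assoc, ← E3, q, i₂]; exact one_mem _)))) (E3 ▸ cζ.mul_left cv)
    rw [E3, mul_mem_cancel_right d2] at d3
    exact nD ((mul_mem_cancel_left d3).1 (E1 ▸ d1))

/-- For `0 < k < orderOf y`, `y^k z y^-k ≠ z`, so `y^k u y^-k` commutes with the neighbour `w` of `u`
(`l3d`, `l4`); `mem_of_fpf` gives `u ∈ 𝐂[w]`. -/
theorem false (hy : y ∈ 𝐍(S)) (pr : (orderOf y).Prime) (f : S ⊓ 𝐂[y] = ⊥) (a : P z u) : False := by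
  obtain ⟨w, c, e, -⟩ := h.nb _ _ a
  obtain ⟨zS, uS, -, -, z1, -⟩ := h.mem _ _ a
  refine z1 (by
    rw [← e, commutatorElement_eq_one_iff_mul_comm]
    refine mem_cent1.1 (mem_of_fpf (n := orderOf y - 1) hy (by rw [Nat.sub_add_cancel pr.pos, pow_orderOf_eq_one]) f uS
      fun k hk => ?_)
    have a' := h.cj _ (pow_mem hy (k + 1)) _ _ a
    refine mem_cent1.2 (h.l3d (fun q => z1 (mem_bot.1 (f ▸ ⟨zS, ?_⟩))) (h.l4 a' a) a' c)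
    rw [← cent_zpowers, ← cent1_eq_of_prime (by rwa [Nat.card_zpowers]) (pow_mem (mem_zpowers y) (k + 1))
      (pow_ne_one_of_lt_orderOf (by omega) (by omega))]
    exact mem_cent1.2 (mul_inv_eq_iff_eq_mul.1 q).symm)

end Pw

end Cfsg.Lib.FQ
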