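import Cfsg.Agent.Lib.FQ.Cnt
import Cfsg.Agent.Lib.FQ.Bas
import Cfsg.Agent.Lib.FQ.Pu2

/-!
# The end of the case of two swapped sides

Notation of the docstrings: `V = 𝐘 P`, `Q = 𝐐 P`, `E = J ⊓ 𝐂(V) = J ⊓ Q`, `V' = a ⋆ V`, `u = g z g⁻¹`,
`u' = a u a⁻¹`. By `Tw.two`, `|J : E| = 2 = |V : C_V(J)|` and `T = J Q`.
-/

set_option autoImplicit false
set_option linter.unusedSectionVars false

namespace Cfsg.Lib.FQ

open Subgroup Cfsg.Lib.BG Cfsg.Lib.Transfer Cfsg.Lib.Loc Cfsg.Lib.PLocal Cfsg.Lib.CGT Cfsg.Lib.PU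
open Cfsg.Lib.CS
open scoped commutatorElement

variable {G : Type*} [Group G] [Finite G] {A J M P S T : Subgroup G} {a g k n v x y z : G}

omit [Finite G] in
theorem end_two {H K : Subgroup G} (h : H.relIndex K = 2) (hx : x ∈ K) (hy : y ∈ K) (n : x ∉ H) (m : y ∉ H) :
    x * y ∈ H :=
  (mul_mem_iff_of_index_two (H := H.subgroupOf K) h (a := ⟨x, hx⟩) (b := ⟨y, hy⟩)).2 (iff_of_false n m)

theorem Tq.comm_le {R V V' : Subgroup G} (h : Tq R V) (k : Tq R V') (n : ¬ V ≤ 𝐂(V')) : ⁅V, R⁆ ≤ ⁅V', R⁆ :=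
  commutator_le.2 fun v hv r hr => by
    obtain ⟨w, hw, e, he, rfl⟩ := h.mul_dec k n hr
    have := inv_mem (commutator_mem_commutator hw (h.le hv))
    rwa [commutatorElement_inv, commutatorElement_def, ← mul_inv_eq_iff_eq_mul.2
      (mem_centralizer_iff.1 he.2 _ (inv_mem hv)).symm, show v * w * (e * v⁻¹ * e⁻¹) * w⁻¹ = ⁅v, w * e⁆ by
        simp only [commutatorElement_def]; group] at this

omit [Finite G] in
theorem end_fix (z1 : z ≠ 1) (z2 : z * z = 1) (h : k ⋆ zpowers z = zpowers z) : k * z * k⁻¹ = z :=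
  (pu_zp z2 (h ▸ conj_mem_conj.2 (mem_zpowers z))).resolve_left (by simpa using z1)

namespace Tw

variable (h : Tw J A T P M g a)
include h

theorem idxV : 𝐂(J).relIndex (𝐘 P) = 2 := h.bq.idx.trans h.two.1

theorem sylP : SylIn 2 T P := ⟨h.pm.le.trans h.pm.lt.le, h.pm.pgroup, h.pm.syl⟩

theorem Q_le : 𝐐 P ≤ T := h.inf_cent ▸ inf_le_left

omit h in
theorem cQ : 𝐐 P ≤ 𝐂(𝐘 P) := le_centralizer_iff.1 (oz_le_centralizer _)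

theorem cT (hv : v ∈ 𝐘 P) (h1 : v ∈ 𝐂(J)) : v ∈ 𝐂(T) :=
  centralizer_le (SetLike.coe_subset_coe.2 h.two.2) (cent_sup J (𝐐 P) ▸ mem_inf.2 ⟨h1, oz_le_centralizer _ hv⟩)

theorem comm_le : ⁅𝐘 P, J⁆ ≤ 𝐘 P := commutator_le.2 fun v hv t ht => by
  rw [commutatorElement_def, mul_assoc, mul_assoc, ← mul_assoc t]
  exact mul_mem hv (conj_mem_of_norm (h.bq.nV ht) (inv_mem hv))

theorem E_eq (hv : v ∈ 𝐘 P) (n : v ∉ 𝐂(J)) : J ⊓ 𝐂[v] = J ⊓ 𝐂(𝐘 P) :=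
  le_antisymm (fun t ht => ⟨ht.1, (h.bq.ti v hv t ht.1 (mem_cent1.1 ht.2)).resolve_right n⟩) fun _ ht =>
    ⟨ht.1, mem_cent1.2 (mem_centralizer_iff.1 ht.2 v hv).symm⟩

/-- `z = ⁅t, v⁆` with `t ∈ J ∖ 𝐂(V)`, `v ∈ V ∖ 𝐂(J)`; both indices are 2 and `⁅V, J⁆ ≤ V ⊓ 𝐂(J)`. -/
theorem exists_z : ∃ z, z ≠ 1 ∧ z * z = 1 ∧ z ∉ 𝐂[g] ∧ ⁅𝐘 P, J⁆ = zpowers z := by
  obtain ⟨v, hv, nv⟩ := SetLike.not_le_iff_exists.1 h.bq.nc
  obtain ⟨t, ht, nt⟩ := SetLike.not_le_iff_exists.1 fun k : J ≤ 𝐂(𝐘 P) => h.bq.nc (le_centralizer_iff.1 k)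
  have hz : ⁅t, v⁆ ∈ ⁅𝐘 P, J⁆ := commutatorElement_inv v t ▸ inv_mem (commutator_mem_commutator hv ht)
  have zg : ⁅t, v⁆ ∉ 𝐂[g] := fun k => (h.bq.nd v hv t ht k).elim nt nv
  refine ⟨⁅t, v⁆, fun k => zg (k ▸ one_mem _), el_sq h.bq.el (h.comm_le hz), zg,
    le_antisymm (commutator_le.2 fun w hw s hs => ?_) (zpowers_le.2 hz)⟩
  by_cases h1 : w ∈ 𝐂(J)
  · exact commutatorElement_eq_one_iff_mul_comm.2 (mem_centralizer_iff.1 h1 s hs).symm ▸ one_mem _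
  by_cases h2 : s ∈ 𝐂(𝐘 P)
  · exact commutatorElement_eq_one_iff_mul_comm.2 (mem_centralizer_iff.1 h2 w hw) ▸ one_mem _
  have c := mem_centralizer_iff.1 (end_two h.idxV (inv_mem hv) hw (mt inv_mem_iff.1 nv) h1) s hs
  have e := mem_centralizer_iff.1 (end_two h.two.1 (inv_mem ht) hs (mt inv_mem_iff.1 nt) h2) _ (inv_mem hv)
  have : ⁅w, s⁆ = ⁅t, v⁆⁻¹ := by
    simp only [commutatorElement_def]
    calc _ = v * (v⁻¹ * w * s) * w⁻¹ * s⁻¹ := by group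
      _ = v * t * (t⁻¹ * s * v⁻¹) * s⁻¹ := by rw [← c]; group
      _ = _ := by rw [← e]; group
  exact this ▸ inv_mem (mem_zpowers _)

variable (hz : ⁅𝐘 P, J⁆ = zpowers z) (z1 : z ≠ 1) (z2 : z * z = 1) (zg : z ∉ 𝐂[g])
include hz

/-- `T = J Q` and `Q ≤ 𝐂(V)`. -/
theorem comm_T : ⁅𝐘 P, T⁆ = zpowers z := le_antisymm ((commutator_mono le_rfl h.two.2).trans (commutator_sup_le
    (hz ▸ h.comm_le) h.bq.nV (cQ.trans (centralizer_le_normalizer _)) hz.le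
    ((commutator_eq_bot_iff_le_centralizer.2 (oz_le_centralizer _)).le.trans bot_le)))
  (hz ▸ commutator_mono le_rfl h.J_le)

theorem z_mem : z ∈ 𝐘 P ⊓ 𝐂(T) := have : z ∈ ⁅𝐘 P, J⁆ := hz ▸ mem_zpowers z
  ⟨h.comm_le this, h.cT (h.comm_le this) (h.bq.quad this)⟩

/-- `⁅V', J⁆ = ⁅V', V⁆ = ⁅V, J⁆` by `Tq.le_sup`. -/
theorem comm' : ⁅a ⋆ 𝐘 P, J⁆ = zpowers z := hz ▸ le_antisymm (h.tq'.comm_le h.bq.toTq (h.aa (𝐘 P) ▸ h.nc'))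
  (h.bq.toTq.comm_le h.tq' h.nc)

include z1 z2

theorem az : a * z * a⁻¹ = z := end_fix z1 z2 (by
  conv_lhs => rw [← hz, conj_commutator, conj_eq_of_norm (h.nJ h.aA), h.comm' hz])

include zg

/-- Otherwise `u ∈ 𝐂(J ⊔ Q) ≤ 𝐂(T)` and `K = T ⊔ g⁻¹ ⋆ T ≤ 𝐂[z]`. `K = P` contradicts `zg`; else `K ≤ M`,
`g⁻¹ ⋆ T = m ⋆ T` with `m ∈ M`, and `g m ∈ P ⊓ 𝐍(T) ≤ M`. -/
theorem u_not : g * z * g⁻¹ ∈ 𝐘 P ∧ g * z * g⁻¹ ∉ 𝐂(J) := by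
  have hu := conj_mem_of_norm (norm_Y 2 P h.gP) (h.z_mem hz).1
  refine ⟨hu, fun k => h.gM ?_⟩
  have s1 := h.sylP.conj_mem (inv_mem h.gP)
  have K : T ⊔ g⁻¹ ⋆ T ≤ M := by
    by_contra n
    have e := h.pm.eq_of_not_le le_sup_left (sup_le h.sylP.1 s1.1) n
    have : T ⊔ g⁻¹ ⋆ T ≤ 𝐂[z] := sup_le (fun t ht => mem_cent1.2 (mem_centralizer_iff.1 (h.z_mem hz).2 t ht))
      (conj_le_iff.2 fun t ht => mem_cent1.2 (by
        have := mem_centralizer_iff.1 (h.cT hu k) t ht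
        calc _ = g⁻¹ * (t * (g * z * g⁻¹)) * g := by group
          _ = _ := by rw [this]; group))
    exact zg (mem_cent1.2 (mem_cent1.1 (this (e ▸ h.gP))).symm)
  obtain ⟨m, hm, e⟩ := (h.sylP.of_le h.pm.le h.pm.lt.le).exists_conj (s1.of_le (le_sup_right.trans K) h.pm.lt.le)
  have := h.pm.normalizer_le ⟨mul_mem h.gP (h.pm.lt.le hm), norm_of_conj_eq (by rw [← conj_conj, e, conj_inv_conj])⟩
  exact (mul_mem_cancel_right hm).1 this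

/-- `u' ∈ V' ≤ J` is not in `𝐂(V)` by `Tq.inf_le`. -/
theorem u'_not : a * (g * z * g⁻¹) * a⁻¹ ∈ J ∧ a * (g * z * g⁻¹) * a⁻¹ ∉ 𝐂(𝐘 P) := by
  obtain ⟨h1, h2⟩ := h.u_not hz z1 z2 zg
  refine ⟨h.tq'.le (conj_mem_conj.2 h1), fun k => h2 ?_⟩
  have := h.bq.toTq.inf_le h.tq' h.nc ⟨conj_mem_conj.2 h1, k⟩
  rwa [← conj_eq_of_norm (h.nJ h.aA), ← conj_centralizer, conj_mem_conj] at this

/-- For `v ∈ V`: `⁅v, u'⁆ ∈ ⟨z⟩`, and it is `1` exactly for `v ∈ 𝐂(J)` (`ti`). -/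
theorem comm_eq (hv : v ∈ 𝐘 P) (h1 : v ∉ 𝐂(J)) : ⁅v, a * (g * z * g⁻¹) * a⁻¹⁆ = z := by
  obtain ⟨h2, h3⟩ := h.u'_not hz z1 z2 zg
  exact (pu_zp z2 (hz ▸ commutator_mem_commutator hv h2)).resolve_left fun k =>
    (h.bq.ti v hv _ h2 (commutatorElement_eq_one_iff_mul_comm.1 k).symm).elim h3 h1

theorem comm_u (hx : x ∈ T) : ⁅x, g * z * g⁻¹⁆ ∈ zpowers z :=
  h.comm_T hz ▸ commutatorElement_inv _ x ▸ inv_mem (commutator_mem_commutator (h.u_not hz z1 z2 zg).1 hx)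

/-- `x ∈ T = a ⋆ T ≤ J ⊔ a ⋆ Q`, `a ⋆ Q ≤ 𝐂(V')`, `comm'`. -/
theorem comm_mem (hx : x ∈ T) : ⁅x, a * (g * z * g⁻¹) * a⁻¹⁆ ∈ zpowers z := by
  have := conj_mem_conj (g := a).2 (h.comm_u hz z1 z2 zg (conj_mem_of_norm' h.nT hx))
  rwa [conj_zpowers, h.az hz z1 z2, show a * ⁅a⁻¹ * x * a, g * z * g⁻¹⁆ * a⁻¹ = ⁅x, a * (g * z * g⁻¹) * a⁻¹⁆ by
    simp only [commutatorElement_def]; group] at this

/-- `syl_up` with `K = 𝐂[z] ⊓ 𝐍(zpowers z ⊔ zpowers u) ≥ T` (`E = J ⊓ 𝐂[u] = J ⊓ 𝐂(⟨z, u⟩)` by `ti`); then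
`Q = T ⊓ 𝐂[u]` is Sylow in the normal subgroup `𝐂[z] ⊓ 𝐂[u]` (`SylIn.inf_norm`). -/
theorem cent_eq (hS : IsPGroup 2 S) (h1 : T ≤ S) : S ⊓ 𝐂[z] ⊓ 𝐂[g * z * g⁻¹] = 𝐐 P := by
  obtain ⟨h2, h3⟩ := h.u_not hz z1 z2 zg
  have cu := fun x => h.comm_u (x := x) hz z1 z2 zg
  obtain ⟨zV, zT⟩ := h.z_mem hz
  generalize g * z * g⁻¹ = u at *
  have zJ : z ∈ 𝐂(J) := centralizer_le (SetLike.coe_subset_coe.2 h.J_le) zT
  have zu : z * u = u * z := cnt_comm h.bq.el zV h2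
  have TK : T ≤ Kz z u z2 := fun t ht => ⟨mul_inv_eq_iff_eq_mul.2 (mem_centralizer_iff.1 zT t ht), by
    have e : t * u * t⁻¹ = ⁅t, u⁆ * u := by simp [commutatorElement_def]
    rw [e]
    exact (pu_zp z2 (cu t ht)).imp (fun k => by rw [k, one_mul]) fun k => by rw [k, zu]⟩
  have s := syl_up h.syl h.jT TK fun k hk => norm_of_conj_eq (by
    rw [← h.E_eq h2 h3, conj_inf, conj_eq_of_norm hk.2, conj_cent1]
    rcases hk.1.2 with e | e <;> rw [e]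
    rw [h.E_eq h2 h3, h.E_eq (mul_mem h2 zV) (mt (mul_mem_cancel_right zJ).1 h3)])
  have s1 := SylIn.inf_norm (N := 𝐂[z] ⊓ 𝐂[u]) s (fun k hk => ⟨mul_inv_eq_iff_eq_mul.2 (mem_cent1.1 hk.1),
    Or.inl (mul_inv_eq_iff_eq_mul.2 (mem_cent1.1 hk.2))⟩) fun k hk => norm_of_conj_eq (by
      rw [conj_inf, conj_cent1, conj_cent1, hk.1]
      rcases hk.2 with e | e <;> rw [e]
      ext x
      simp only [mem_inf, mem_cent1]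
      refine and_congr_right fun hx => ?_
      rw [← mul_assoc, mul_assoc u, ← hx, ← mul_assoc, mul_left_inj])
  have QC : 𝐐 P ≤ 𝐂[z] ⊓ 𝐂[u] := fun q hq => ⟨mem_cent1.2 (mem_centralizer_iff.1 (cQ hq) z zV).symm,
    mem_cent1.2 (mem_centralizer_iff.1 (cQ hq) u h2).symm⟩
  have e : T ⊓ (𝐂[z] ⊓ 𝐂[u]) = 𝐐 P := le_antisymm (fun x hx => by
    obtain ⟨j, hj, q, hq, rfl⟩ := (mem_sup_left_norm (h.Q_le.trans h.T_norm)).1 (h.two.2 hx.1)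
    have : j ∈ J ⊓ 𝐂(𝐘 P) := h.E_eq h2 h3 ▸ mem_inf.2 ⟨hj, (mul_mem_cancel_right (mem_inf.1 (QC hq)).2).1 hx.2.2⟩
    exact mul_mem (h.inf_cent ▸ mem_inf.2 ⟨h.J_le hj, this.2⟩) hq) (le_inf h.Q_le QC)
  rw [e] at s1
  rw [inf_assoc]
  exact (s1.eq_of_le (hS.to_le inf_le_left) inf_le_right (le_inf (h.Q_le.trans h1) QC)).symm

/-- WC. `T` is Sylow in `𝐍(Q)` by `syl_up` (`E = J ⊓ Q`). `w = k z k⁻¹ ∈ V ⊓ 𝐂(J)` centralizes `T = J Q`, so `T`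
and `k ⋆ T` are Sylow in `𝐍(Q) ⊓ 𝐂[w]`; `c k ∈ 𝐍(T) ⊓ 𝐍(Q)` with `c ∈ 𝐂[w]` normalizes `⁅V, T⁆ = ⟨z⟩`. -/
theorem wc (hk : k ∈ 𝐍(𝐐 P)) (h1 : k * z * k⁻¹ ∈ 𝐂(J)) : k * z * k⁻¹ = z := by
  have nV := normalizer_le_normalizer_oz (p := 2) (𝐐 P)
  have s : SylIn 2 T 𝐍(𝐐 P) := syl_up h.syl h.jT (h.sylP.1.trans (le_normalizer_core 2 P))
    (norm_inf inf_le_right (norm_cent (inf_le_left.trans nV)))
  have c1 := h.cT (conj_mem_of_norm (nV hk) (h.z_mem hz).1) h1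
  have s2 := s.conj_mem hk
  obtain ⟨c, hc, e⟩ := (s2.of_le (N := 𝐍(𝐐 P) ⊓ 𝐂[k * z * k⁻¹]) (le_inf s2.1 (conj_cent1 k z ▸ conj_mono k fun t ht =>
    mem_cent1.2 (mem_centralizer_iff.1 (h.z_mem hz).2 t ht))) inf_le_left).exists_conj
    (s.of_le (le_inf s.1 fun t ht => mem_cent1.2 (mem_centralizer_iff.1 c1 t ht)) inf_le_left)
  have := end_fix (k := c * k) z1 z2 (by
    rw [← h.comm_T hz, conj_commutator, conj_eq_of_norm (nV (mul_mem hc.1 hk)), ← conj_conj, e])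
  rwa [show c * k * z * (c * k)⁻¹ = c * (k * z * k⁻¹) * c⁻¹ by group, mem_cent1.1 hc.2, mul_inv_cancel_right] at this

/-- Let `v = k z k⁻¹ ≠ z`; `v ∉ 𝐂(J)` by `wc`, so `v z = u' v u'⁻¹` is also conjugate to `z` in `𝐍(Q)`. If
`v ∉ {u, u z}` then none of `z, v, v z ∈ V` is `u`, so none centralizes `g ⋆ J` (`wc` conjugated by
`g ∈ P ≤ 𝐍(Q)`); but `𝐂(g ⋆ J)` has index 2 in `V = g ⋆ V`. -/
theorem orb (hk : k ∈ 𝐍(𝐐 P)) (h1 : k * z * k⁻¹ ≠ z) :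
    k * z * k⁻¹ = g * z * g⁻¹ ∨ k * z * k⁻¹ = g * z * g⁻¹ * z := by
  have gQ := le_normalizer_core 2 P h.gP
  have w : ∀ l ∈ 𝐍(𝐐 P), l * z * l⁻¹ ∈ 𝐂(g ⋆ J) → l * z * l⁻¹ = g * z * g⁻¹ := fun l hl e => by
    rw [← conj_centralizer, mem_conj] at e
    have := h.wc hz z1 z2 zg (mul_mem (inv_mem gQ) hl) (by convert e using 1; group)
    calc _ = g * (g⁻¹ * l * z * (g⁻¹ * l)⁻¹) * g⁻¹ := by group
      _ = _ := by rw [this]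
  have zV := (h.z_mem hz).1
  have hv := conj_mem_of_norm (normalizer_le_normalizer_oz (p := 2) (𝐐 P) hk) zV
  have i : 𝐂(g ⋆ J).relIndex (𝐘 P) = 2 := by
    rw [← conj_centralizer, ← conj_eq_of_norm (norm_Y 2 P h.gP), relIndex_conj, h.idxV]
  refine or_iff_not_imp_left.2 fun n => ?_
  have c := h.comm_eq hz z1 z2 zg hv (mt (h.wc hz z1 z2 zg hk) h1)
  have uQ := le_normalizer_core 2 P (h.sylP.1 (h.J_le (h.u'_not hz z1 z2 zg).1))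
  generalize a * (g * z * g⁻¹) * a⁻¹ = r at c uQ
  have v2 := el_sq h.bq.el hv
  have e : r * k * z * (r * k)⁻¹ = k * z * k⁻¹ * z := by
    rw [commutatorElement_def, pu_inv v2] at c
    calc _ = k * z * k⁻¹ * (k * z * k⁻¹) * (r * (k * z * k⁻¹) * r⁻¹) := by rw [v2]; group
      _ = k * z * k⁻¹ * (k * z * k⁻¹ * r * (k * z * k⁻¹) * r⁻¹) := by simp only [mul_assoc]
      _ = _ := by rw [c]
  have := w _ (mul_mem uQ hk) (e ▸ end_two i hv zV (mt (w k hk) n) fun q => zg (mem_cent1.2 (by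
    have := w 1 (one_mem _) (by simpa using q)
    rw [one_mul, inv_one, mul_one, eq_mul_inv_iff_mul_eq] at this
    exact this)))
  rw [← this, e, mul_assoc _ z z, z2, mul_one]

/-- `mem`, `nb` (with `a ∈ S`), `sq` (`D = 𝐂[g]`, `sq_mem`, `cq`) are conjugates of the facts above. For `inj`
reduce to the base pair and `v = n u n⁻¹` with `n ∈ 𝐍(S) ⊓ 𝐂[z]`: `Q ≤ n ⋆ Q` by `cent_eq`, so `n ∈ 𝐍(Q)`,
and `orb` applies to `k = n g`. -/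
theorem pw (hS : IsPGroup 2 S) (h1 : T ≤ S) (h2 : a ∈ S) :
    Pw S fun s t => ∃ n ∈ 𝐍(S), n * z * n⁻¹ = s ∧ n * (g * z * g⁻¹) * n⁻¹ = t := by
  obtain ⟨uV, uJ⟩ := h.u_not hz z1 z2 zg
  have zV := (h.z_mem hz).1
  have VS : 𝐘 P ≤ S := h.bq.le.trans (h.J_le.trans h1)
  have E : ∀ n ∈ 𝐍(S), S ⊓ 𝐂[n * z * n⁻¹] ⊓ 𝐂[n * (g * z * g⁻¹) * n⁻¹] = n ⋆ 𝐐 P := fun n hn => by
    rw [← h.cent_eq hz z1 z2 zg hS h1, conj_inf, conj_inf, conj_eq_of_norm hn, conj_cent1, conj_cent1]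
  have mu : ∀ n x y : G, n * x * n⁻¹ * (n * y * n⁻¹) = n * (x * y) * n⁻¹ := fun _ _ _ => by group
  have cm : ∀ n x y : G, ⁅n * x * n⁻¹, n * y * n⁻¹⁆ = n * ⁅x, y⁆ * n⁻¹ := fun _ _ _ => by
    simp only [commutatorElement_def]; group
  refine ⟨hS, ?_, ?_, ?_, ?_, ?_⟩
  · rintro n hn _ _ ⟨m, hm, rfl, rfl⟩
    exact ⟨n * m, mul_mem hn hm, by group, by group⟩
  · rintro _ _ ⟨n, hn, rfl, rfl⟩
    refine ⟨conj_mem_of_norm hn (VS zV), conj_mem_of_norm hn (VS uV), by simp [z2], ?_, by simpa using z1, ?_⟩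
    · rw [mu, el_sq h.bq.el uV, mul_one, mul_inv_cancel]
    · rw [mu, mu, cnt_comm h.bq.el zV uV]
  · rintro _ _ ⟨n, hn, rfl, rfl⟩
    refine ⟨n * (a * (g * z * g⁻¹) * a⁻¹) * n⁻¹, ⟨n * a, mul_mem hn (le_norm S h2), ?_, by group⟩, ?_, fun x hx => ?_⟩
    · conv_rhs => rw [← h.az hz z1 z2]
      group
    · rw [cm, h.comm_eq hz z1 z2 zg uV uJ]
    · rw [E n hn, mem_conj] at hx
      rw [← conj_zpowers, show x = n * (n⁻¹ * x * n) * n⁻¹ by group, cm, conj_mem_conj]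
      exact h.comm_mem hz z1 z2 zg (h.Q_le hx)
  · rintro _ _ ⟨n, hn, rfl, rfl⟩
    refine ⟨n ⋆ 𝐂[g], mt conj_mem_conj.1 zg, fun x hx => ?_⟩
    rw [E n hn, mem_conj] at hx
    rw [show x = n * (n⁻¹ * x * n) * n⁻¹ by group, mu, conj_mem_conj]
    exact sq_mem h.bq.el (cQ hx) (h.cq _ hx)
  · rintro _ _ _ ⟨n, hn, rfl, rfl⟩ ⟨m, hm, e, rfl⟩ k
    have le : n ⋆ 𝐐 P ≤ m ⋆ 𝐐 P := by
      rw [← E n hn, ← E m hm, e]
      exact le_inf inf_le_left k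
    have l := inv_mul_norm (eq_of_le_of_card_ge le (by rw [card_conj, card_conj])).symm
    have q : m * (g * z * g⁻¹) * m⁻¹ = n * (n⁻¹ * m * g * z * (n⁻¹ * m * g)⁻¹) * n⁻¹ := by group
    rw [mu, q]
    refine (h.orb hz z1 z2 zg (mul_mem l (le_normalizer_core 2 P h.gP)) fun c => zg (mem_cent1.2 ?_)).imp
      (fun c => by rw [c]) fun c => by rw [c]
    rw [c, ← e, mul_left_inj, mul_right_inj, mul_inv_eq_iff_eq_mul] at q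
    exact q.symm

omit hz z1 z2 zg in
/-- `T ⊔ zpowers a ≤ c ⋆ S`; use `Lo.conj`, `pw`, `Pw.false`. -/
theorem false (l : Lo S y) : False := by
  obtain ⟨z, z1, z2, zg, hz⟩ := h.exists_z
  obtain ⟨c, hc⟩ := l.exists_le (pgroup_sup h.pm.pgroup ((PGroup.elemAb_isPGroup h.el).to_le (zpowers_le.2 h.aA))
    (zpowers_le.2 h.nT))
  have l' := l.conj c
  exact (h.pw hz z1 z2 zg l'.syl.2.1 (le_sup_left.trans hc) (hc (mem_sup_right (mem_zpowers a)))).false l'.nS l'.pr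
    l'.fpf ⟨1, one_mem _, rfl, rfl⟩

end Tw

end Cfsg.Lib.FQ
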