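import Cfsg.Agent.Lib.FQ.Bas

/-!
# Existence of extremal configurations
-/

set_option autoImplicit false
set_option linter.unusedSectionVars false

namespace Cfsg.Lib.FQ

open Subgroup Cfsg.Lib.BG Cfsg.Lib.Transfer Cfsg.Lib.Loc Cfsg.Lib.PLocal Cfsg.Lib.CGT Cfsg.Lib.PU
open Cfsg.Lib.CS
open scoped commutatorElement

variable {G : Type*} [Group G] [Finite G] {B D J S T W Z : Subgroup G} {g x y : G}

/-- `D` is a 2-group whose centre contains two conjugates of `Z`. -/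
def Bad (Z D : Subgroup G) : Prop :=
  IsPGroup 2 D ∧ ∃ a b : G, a ⋆ Z ≠ b ⋆ Z ∧ a ⋆ Z ≤ D ⊓ 𝐂(D) ∧ b ⋆ Z ≤ D ⊓ 𝐂(D)

theorem Bad.exists_max (h : Bad Z D) : ∃ E, D ≤ E ∧ Bad Z E ∧ ∀ D', Bad Z D' → E ≤ D' → D' ≤ E := by
  obtain ⟨E, h1, h2⟩ := Finite.exists_le_maximal h
  exact ⟨E, h1, h2.1, fun D' a b => h2.2 a b⟩

omit [Finite G] in
theorem conj_le_cent_oz (x : G) (S : Subgroup G) : x ⋆ S ≤ 𝐂(x ⋆ 𝛀 S) := by
  rw [conj_oz]; exact le_centralizer_oz _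

omit [Finite G] in
theorem el_conj_oz (x : G) (S : Subgroup G) : IsElementaryAbelian 2 (x ⋆ 𝛀 S) := by
  rw [conj_oz]; exact oz_elemAb _

omit [Finite G] in
theorem pg_conj_oz (hS : IsPGroup 2 S) (x : G) : IsPGroup 2 ↥(x ⋆ 𝛀 S) :=
  isPGroup_conj (hS.to_le (oz_le S)) x

/-- A1. Put `Z' = x ⋆ 𝛀 S = 𝛀 (x ⋆ S)`. `D ≤ T ≤ 𝐂(Z')`, so `Z' ⊔ T ≤ 𝐍(D)` is a 2-group and `Z' ≤ T`;
`D ⊔ Z'` is bad, so `Z' ≤ D`. Suppose `𝐍(D) ≤ 𝐍(Z')`. One of the two conjugates, `Y = a ⋆ Z`, differs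
from `Z'`. `D ≤ 𝐂(Y)` lies in `S₁ = (c a) ⋆ S` with `c ∈ 𝐂(Y)` (`a ⋆ S` is Sylow in `𝐂(Y)`), `𝛀 S₁ = Y`.
`S₁ ⊓ 𝐍(D) ≤ n ⋆ T ≤ 𝐂(n ⋆ Z') = 𝐂(Z')` for some `n ∈ 𝐍(D)`, so `S₁ ⊓ 𝐍(D)` is bad and equal to `D`;
hence `D = S₁` (`eq_of_norm_le`) is Sylow in `G`, `S₁ = D ≤ x ⋆ S` forces equality and `Y = Z'`. -/
theorem Bad.cf (hS : SylIn 2 S ⊤) (h : Bad (𝛀 S) D) (hm : ∀ D', Bad (𝛀 S) D' → D ≤ D' → D' ≤ D)
    (hT : SylIn 2 T 𝐍(D)) (hx : T ≤ x ⋆ S) : Cf (x ⋆ 𝛀 S) D T := by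
  obtain ⟨hD, a, b, ab, ha, hb⟩ := h
  have c1 : T ≤ 𝐂(x ⋆ 𝛀 S) := hx.trans (conj_le_cent_oz x S)
  have dT := syl_norm_le hD hT
  have c2 := dT.trans c1
  have z : x ⋆ 𝛀 S ≤ D := le_sup_right.trans (hm _ ⟨pgroup_sup hD (pg_conj_oz hS.2.1 x) (norm_of_cent (cent_symm c2)),
    a, b, ab, le_inf (ha.trans (inf_le_left.trans le_sup_left))
      (le_cent_sup (ha.trans inf_le_right) ((ha.trans inf_le_left).trans c2)),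
    le_inf (hb.trans (inf_le_left.trans le_sup_left))
      (le_cent_sup (hb.trans inf_le_right) ((hb.trans inf_le_left).trans c2))⟩ le_sup_left)
  refine ⟨hD, z, hT, c1, fun hn => ?_⟩
  have key : ∀ a : G, a ⋆ 𝛀 S ≤ D ⊓ 𝐂(D) → a ⋆ 𝛀 S = x ⋆ 𝛀 S := fun a ha => by
    by_contra ne
    have s := (hS.conj_mem (mem_top a)).of_le (conj_le_cent_oz a S) le_top
    obtain ⟨c, hc, h1⟩ := SylIn.exists_le s hD (cent_symm (ha.trans inf_le_right))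
    have s1 := s.conj_mem hc
    have p1 : IsPGroup 2 ↥(c ⋆ (a ⋆ S) ⊓ 𝐍(D)) := s1.2.1.to_le inf_le_left
    obtain ⟨n, hn', h2⟩ := SylIn.exists_le hT p1 inf_le_right
    have h3 := h2.trans (conj_le_of_norm c1 (norm_cent le_rfl (hn hn')))
    have d1 : D ≤ c ⋆ (a ⋆ S) ⊓ 𝐍(D) := le_inf h1 (le_norm D)
    have e := eq_of_norm_le s1.2.1 h1 (hm _ ⟨p1, a, x, ne, le_inf ((ha.trans inf_le_left).trans d1)
      (cent_symm (inf_le_left.trans s1.1)), le_inf (z.trans d1) (cent_symm h3)⟩ d1)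
    have e2 := ((hS.conj_mem (mem_top a)).conj_mem (mem_top c)).eq_of_le (isPGroup_conj hS.2.1 x) le_top
      (e.ge.trans (dT.trans hx))
    exact ne (by rw [conj_oz x, ← e2, ← conj_oz, ← conj_oz, conj_eq_of_cent hc])
  exact ab ((key a ha).trans (key b hb).symm)

/-- `Z ⊔ g ⋆ Z` is bad; take a maximal bad `D` and conjugate back. -/
theorem exists_cf (hS : SylIn 2 S ⊤) (h1 : g ⋆ 𝛀 S ≤ S) (h2 : g ∉ 𝐍(𝛀 S)) : ∃ W T, Cf (𝛀 S) W T := by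
  have b : Bad (𝛀 S) (𝛀 S ⊔ g ⋆ 𝛀 S) := by
    have l : 𝛀 S ⊔ g ⋆ 𝛀 S ≤ S := sup_le (oz_le S) h1
    refine ⟨hS.2.1.to_le l, 1, g, fun e => h2 (norm_of_conj_eq (e.symm.trans (conj_one _))), ?_,
      le_inf le_sup_right (le_cent_sup (h1.trans (le_centralizer_oz S)) (abelian_cent (el_conj_oz g S).1))⟩
    rw [conj_one]
    exact le_inf le_sup_left ((oz_le_centralizer S).trans (cent_anti l))
  obtain ⟨D, -, hD, hm⟩ := b.exists_max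
  obtain ⟨T, -, hT⟩ := exists_sylIn_ge hD.1 (le_norm D)
  obtain ⟨x, -, hx⟩ := SylIn.exists_le hS hT.2.1 le_top
  have := (hD.cf hS hm hT hx).conj x⁻¹
  rw [inv_conj_conj] at this
  exact ⟨_, _, this⟩

/-- The order of an elementary abelian subgroup of maximal order. -/
noncomputable def rk (T : Subgroup G) : ℕ := Nat.card (exists_mem_maxIn 2 T).choose

theorem card_eq_rk {A : Subgroup G} (h : A ∈ maxIn 2 T) : Nat.card A = rk T :=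
  card_eq_of_mem_maxIn h (exists_mem_maxIn 2 T).choose_spec

theorem rk_conj (x : G) (T : Subgroup G) : rk (x ⋆ T) = rk T := by
  obtain ⟨A, hA⟩ := exists_mem_maxIn 2 T
  rw [← card_eq_rk (conj_mem_maxIn hA x), card_conj, card_eq_rk hA]

/-- Choose the configuration with `(|A|, |𝐉 T|, |𝐁 T|)` (`A ∈ maxIn 2 T`) lexicographically maximal.
The triple is invariant under conjugation (`Cf.conj`). If `𝐉 T₀ ≤ T` then the ranks agree and `𝐉 T₀ ≤ 𝐉 T`. -/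
theorem exists_max (h : ∃ W T, Cf Z W T) : ∃ W₀ T₀, Cf Z W₀ T₀ ∧
    (∀ u W T, Cf (u ⋆ Z) W T → 𝐉 T₀ ≤ T → 𝐉 T = 𝐉 T₀) ∧ ∀ W T, Cf Z W T → 𝐁 T₀ ≤ T → 𝐁 T = 𝐁 T₀ := by
  obtain ⟨T₀, ⟨W₀, h0⟩, hm⟩ := Set.exists_max_image {T : Subgroup G | ∃ W, Cf Z W T}
    (fun T => toLex (rk T, toLex (Nat.card (𝐉 T), Nat.card (𝐁 T)))) (Set.toFinite _)
    (let ⟨W, T, a⟩ := h; ⟨T, W, a⟩)
  simp only [Prod.Lex.toLex_le_toLex] at hm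
  have key : ∀ u W T, Cf (u ⋆ Z) W T → 𝐉 T₀ ≤ T → 𝐉 T = 𝐉 T₀ ∧ rk T = rk T₀ := fun u W T c l => by
    have c' := c.conj u⁻¹
    rw [inv_conj_conj] at c'
    have m := hm _ ⟨_, c'⟩
    rw [rk_conj, ← conj_thompsonSubgroupOf, card_conj] at m
    obtain ⟨A, hA⟩ := exists_mem_maxIn 2 T
    obtain ⟨A₀, hA₀⟩ := exists_mem_maxIn 2 T₀
    have r : rk T₀ ≤ rk T := by
      rw [← card_eq_rk hA, ← card_eq_rk hA₀]
      exact hA.2.2 _ ((le_thompsonSubgroupOf hA₀).trans l) hA₀.2.1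
    obtain ⟨r', m'⟩ := m.resolve_left r.not_gt
    refine ⟨(eq_of_le_of_card_le (thompsonSubgroupOf_le_iff.2 fun C hC => le_thompsonSubgroupOf
      (mem_maxIn_of_card_le hA ((le_thompsonSubgroupOf hC).trans l) hC.2.1 ?_))
      (m'.elim le_of_lt fun e => e.1.le)).symm, r'⟩
    rw [card_eq_rk hA, card_eq_rk hC, r']
  refine ⟨W₀, T₀, h0, fun u W T c l => (key u W T c l).1, fun W T c l => ?_⟩
  obtain ⟨e, r⟩ := key 1 W T ((conj_one Z).symm ▸ c) ((thompson_le_baum T₀).trans l)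
  have m := ((hm _ ⟨_, c⟩).resolve_left r.not_lt).2
  rw [e] at m
  have z : zj 2 T = zj 2 T₀ := by rw [zj, centerThompsonOf, e, zj, centerThompsonOf]
  exact (eq_of_le_of_card_le (le_inf l (z ▸ inf_le_right)) (m.resolve_left (lt_irrefl _)).2).symm

/-- Suppose `x ⋆ Z ≠ Z`. `Z ≤ J ⊓ 𝐂(J)`, so `J ⊔ x ⋆ Z` is bad; take a maximal bad `D` over it, `T` Sylow
in `𝐍(D)`. By `Bad.cf` and `hj`, `𝐉 T = J`, so `𝐉 D = J` and `𝐍(D) ≤ 𝐍(J)`. Take `T₂ ≥ T` Sylow in `𝐍(J)`,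
`T₂ ≤ v ⋆ S`. `Bad.cf` gives `Cf (v ⋆ Z) D T`, so `v ⋆ Z ≤ 𝐉 T = J` and `Cf (v ⋆ Z) J T₂`; `hj` gives
`𝐉 T₂ = J`, so `v ⋆ S ⊓ 𝐍(T₂) ≤ T₂`, `T₂ = v ⋆ S` and `v y v⁻¹ ∈ 𝐍(J)`. By `loc` with `U = J`
(`⊥ ≠ v ⋆ Z ≤ J`) each `n ∈ 𝐍(J)` has `n ⋆ T₂ = k ⋆ T₂`, `k ∈ 𝐂(J)`, so `n` normalizes `𝛀 T₂ = v ⋆ Z`. -/
theorem Lo.g1 (h : Lo S y) (h0 : Cf (𝛀 S) W T) (hj : ∀ u W' T', Cf (u ⋆ 𝛀 S) W' T' → 𝐉 T ≤ T' → 𝐉 T' = 𝐉 T)
    (hx : x ⋆ 𝛀 S ≤ 𝐂(𝐉 T)) : x ∈ 𝐍(𝛀 S) := by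
  by_contra hn
  have z := h0.Z_le (oz_elemAb S)
  have pJ : IsPGroup 2 (𝐉 T) := h0.syl.2.1.to_le (thompsonSubgroupOf_le T)
  have b : Bad (𝛀 S) (𝐉 T ⊔ x ⋆ 𝛀 S) := by
    refine ⟨pgroup_sup pJ (pg_conj_oz h.syl.2.1 x) (norm_of_cent hx), 1, x,
      fun e => hn (norm_of_conj_eq (e.symm.trans (conj_one _))), ?_,
      le_inf le_sup_right (le_cent_sup hx (abelian_cent (el_conj_oz x S).1))⟩
    rw [conj_one]
    exact le_inf (z.trans le_sup_left) (le_cent_sup (cent_symm ((thompsonSubgroupOf_le T).trans h0.cz))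
      (z.trans (cent_symm hx)))
  generalize 𝐉 T = J at *
  obtain ⟨D, jD, hD, hm⟩ := b.exists_max
  replace jD := le_sup_left.trans jD
  obtain ⟨T₁, dT, hT⟩ := exists_sylIn_ge hD.1 (le_norm D)
  obtain ⟨u, hu⟩ := h.exists_le hT.2.1
  have j1 := hj u _ _ (hD.cf h.syl hm hT hu) (jD.trans dT)
  have nD : 𝐍(D) ≤ 𝐍(J) := by
    have := normalizer_le_normalizer_thompsonSubgroupOf (e := 2) D
    rwa [thompsonSubgroupOf_eq_of_le (j1.le.trans jD) dT, j1] at this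
  obtain ⟨T₂, t12, hT₂⟩ := exists_sylIn_ge hT.2.1 (hT.1.trans nD)
  obtain ⟨v, hv⟩ := h.exists_le hT₂.2.1
  have c1 := hD.cf h.syl hm hT (t12.trans hv)
  have z1 : v ⋆ 𝛀 S ≤ J := j1 ▸ c1.Z_le (el_conj_oz v S)
  have c2 : Cf (v ⋆ 𝛀 S) J T₂ := ⟨pJ, z1, hT₂, hv.trans (conj_le_cent_oz v S), fun e => c1.nle (nD.trans e)⟩
  have n2 : 𝐍(T₂) ≤ 𝐍(J) := hj v _ _ c2 c2.W_le ▸ normalizer_le_normalizer_thompsonSubgroupOf T₂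
  have l := h.conj v
  have e := eq_of_norm_le l.syl.2.1 hv (hT₂.eq_of_le (l.syl.2.1.to_le inf_le_left) (inf_le_right.trans n2)
    (le_inf hv (le_norm _))).ge
  refine c2.nle fun n hn' => ?_
  obtain ⟨k, hk, e'⟩ := h.loc v J T₂ pJ (ne_bot_mono c2.Z_ne z1) (n2 (e.symm ▸ l.nS)) hT₂ n hn'
  refine (mul_mem_cancel_left (inv_mem (cent_le_norm _ (cent_anti z1 hk)))).1 ?_
  rw [conj_oz, ← e]
  exact normalizer_le_normalizer_oz _ (inv_mul_norm e')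

theorem Lo.exists_xt (h : Lo S y) (h1 : g ⋆ 𝛀 S ≤ S) (h2 : g ∉ 𝐍(𝛀 S)) : ∃ J B, Xt S y J B := by
  obtain ⟨W, T, a, b, c⟩ := exists_max (exists_cf h.syl h1 h2)
  exact ⟨_, _, h, fun _ => h.g1 a b, fun W' T' e => b 1 W' T' ((conj_one (𝛀 S)).symm ▸ e), c,
    ⟨W, T, a, inf_le_left⟩, thompson_le_baum T⟩

end Cfsg.Lib.FQ
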