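import Cfsg.Agent.Lib.FQ.Out
import Cfsg.Agent.Lib.FQ.End
import Cfsg.Agent.Lib.FQ.Max

/-!
# Weak closure

Notation of the docstrings: `Z = 𝛀 S`, `E = J ⊓ 𝐂(V)`.
-/

set_option autoImplicit false
set_option linter.unusedSectionVars false

namespace Cfsg.Lib.FQ

open Subgroup Cfsg.Lib.BG Cfsg.Lib.Transfer Cfsg.Lib.Loc Cfsg.Lib.PLocal Cfsg.Lib.CGT Cfsg.Lib.PU
open Cfsg.Lib.CS
open scoped commutatorElement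

variable {G : Type*} [Group G] [Finite G] {A B J R S V Y : Subgroup G} {a c g x y : G}

omit [Finite G] in
theorem conj_E (hx : x ∈ 𝐍(J)) : x ⋆ (J ⊓ 𝐂(V)) = J ⊓ 𝐂(x ⋆ V) := by
  rw [conj_inf, conj_eq_of_norm hx, conj_centralizer]

omit [Finite G] in
theorem Tq.le_E (b : Tq J V) : V ≤ J ⊓ 𝐂(V) := le_inf b.le b.self_cent

omit [Finite G] in
theorem Tq.norm_E (b : Tq J V) : J ≤ 𝐍(J ⊓ 𝐂(V)) := norm_inf (le_norm J) (norm_cent b.nV)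

theorem Bq.norm_E (b : Bq J V g) : g ∈ 𝐍(J ⊓ 𝐂(V)) := b.mem_norm b.toTq.le_E le_rfl

theorem Xt.Z_le_E (h : Xt S y J B) (hV : V ≤ J) : 𝛀 S ≤ J ⊓ 𝐂(V) :=
  le_inf h.Z_le ((cent_symm (h.cent h.pgJ le_rfl)).trans (cent_anti hV))

namespace Xt

variable (h : Xt S y J B) (b : Bq J V g) (hg : g ∉ 𝐍(𝛀 S))
include h b

/-- The orbit lemma, `U = J ⊓ 𝐂(ncl V Y)`: the conjugates of `V` lie in `J`, commute and are normalized by `J`;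
`Z ≤ J ⊓ 𝐂(J)`; `Bq.mem_norm`. -/
theorem orbit (hY : Y ≤ 𝐍(J)) (e : ∀ x ∈ Y, V ≤ 𝐂(x ⋆ V)) :
    ∃ U ≤ J, 𝛀 S ≤ U ∧ J ≤ 𝐍(U) ∧ Y ≤ 𝐍(U) ∧ g ∈ 𝐍(U) := by
  have nJ : J ≤ 𝐍(ncl V Y) := fun j hj => mem_normalizer_of_conj_le (conj_le_iff_le_inv_conj.2
    (ncl_le_iff.2 fun x hx => conj_le_iff_le_inv_conj.1 (by
      rw [conj_eq_of_norm ((b.conj' (hY hx)).nV hj)]; exact conj_le_ncl V hx)))
  exact ⟨J ⊓ 𝐂(ncl V Y), inf_le_left, h.Z_le_E (ncl_le b.le hY), norm_inf (le_norm J) (norm_cent nJ),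
    norm_inf hY (norm_cent (norm_ncl V Y)), b.mem_norm (le_inf b.le (cent_symm (ncl_le_iff.2 fun x hx =>
      cent_symm (e x hx)))) (inf_le_inf_left J (cent_anti (le_ncl V Y)))⟩

include hg

/-- Case I, `y' = c y c⁻¹`. If `V` commutes with its conjugates under `⟨y'⟩` use `orbit` and `l2`. Otherwise
`¬ V ≤ 𝐂(x ⋆ V)` with `1 ≠ x ∈ ⟨y'⟩`, also `¬ V ≤ 𝐂(x⁻¹ ⋆ V)`, so `Bq.side_eq` gives `x² ∈ 𝐍(E)`, hence
`y' ∈ 𝐍(E)` (odd prime order), and `l2` with `U = E` contradicts `g ∈ 𝐍(E)`. -/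
theorem case1 (hc : c * y * c⁻¹ ∈ 𝐍(J)) : False := by
  have l := h.toLo.conj c
  by_cases e : ∀ x ∈ zpowers (c * y * c⁻¹), V ≤ 𝐂(x ⋆ V)
  · obtain ⟨U, h1, h2, h3, h4, h5⟩ := h.orbit b (zpowers_le.2 hc) e
    exact hg (h.l2 (h.pgJ.to_le h1) h2 h3 (h4 (mem_zpowers _)) h5)
  push Not at e
  obtain ⟨x, hx, n⟩ := e
  have xJ := zpowers_le.2 hc hx
  have n' : ¬ V ≤ 𝐂(x⁻¹ ⋆ V) := fun e => n (cent_symm (by
    rwa [← conj_centralizer, ← conj_le_iff_le_inv_conj] at e))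
  have s := b.side_eq (b.conj' xJ).toTq (b.conj' (inv_mem xJ)).toTq n n'
  rw [← conj_E xJ, ← conj_E (inv_mem xJ)] at s
  have m := inv_mul_norm s
  rw [inv_inv] at m
  have x1 : x ≠ 1 := by
    rintro rfl
    exact n (by rw [conj_one]; exact b.toTq.self_cent)
  have x2 : x * x ≠ 1 := fun e => l.odd (((Nat.prime_dvd_prime_iff_eq Nat.prime_two l.pr).1 (by
    rw [← orderOf_eq_prime (p := 2) (by rw [pow_two, e]) x1]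
    exact orderOf_dvd_of_mem_zpowers hx)).symm)
  have z := zpowers_eq_of_prime (by rw [Nat.card_zpowers]; exact l.pr) (mul_mem hx hx) x2
  exact hg (h.l2 (h.pgJ.to_le inf_le_left) (h.Z_le_E b.le) b.toTq.norm_E
    (zpowers_le.2 m (z.ge (mem_zpowers _))) b.norm_E)

/-- Otherwise `orbit` with `Y = A` and `exists_ge` with the 2-group `J ⊔ A` give `Cf Z U T`, `J ⊔ A ≤ T`,
`𝐉 T = J`; `A ∈ maxIn 2 T` (a member of `maxIn 2 T` lies in `J ≤ R`), so `A ≤ J`. -/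
theorem exists_a (hR : IsPGroup 2 R) (h1 : J ≤ R) (h2 : R ≤ 𝐍(J)) (hA : A ∈ maxIn 2 R) (n : ¬ A ≤ J) :
    ∃ a ∈ A, ¬ V ≤ 𝐂(a ⋆ V) := by
  by_contra! e
  obtain ⟨U, k1, k2, k3, k4, k5⟩ := h.orbit b (hA.1.trans h2) e
  obtain ⟨T, l, k⟩ := h.exists_ge (h.pgJ.to_le k1) k2 (hR.to_le (sup_le h1 hA.1)) le_sup_left (sup_le k3 k4)
    fun e => hg (e k5)
  have j := h.jj _ _ k (le_sup_left.trans l)
  obtain ⟨A', hA'⟩ := exists_mem_maxIn 2 T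
  exact n (j ▸ le_thompsonSubgroupOf (mem_maxIn_of_card_le hA' (le_sup_right.trans l) hA.2.1
    (hA.2.2 _ (((le_thompsonSubgroupOf hA').trans j.le).trans h1) hA'.2.1)))

omit h hg in
/-- For `n ∈ 𝐍(J) ⊓ 𝐍(E)`: `¬ (n a) ⋆ V ≤ n ⋆ E = E`, so `Bq.side_eq` gives `(n a) ⋆ E = a ⋆ E`. -/
theorem norm_le' (ha : a ∈ 𝐍(J)) (n : ¬ V ≤ 𝐂(a ⋆ V)) : 𝐍(J) ⊓ 𝐍(J ⊓ 𝐂(V)) ≤ 𝐍(a ⋆ (J ⊓ 𝐂(V))) := fun m hm => by
  have k := mul_mem hm.1 ha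
  have n' : ¬ V ≤ 𝐂((m * a) ⋆ V) := fun e => n (cent_symm (le_trans ?_ (inf_le_right : J ⊓ 𝐂(V) ≤ _)))
  · have s := b.side_eq (b.conj' k).toTq (b.conj' ha).toTq n' n
    rw [← conj_E k, ← conj_E ha, ← conj_conj] at s
    exact norm_of_conj_eq s
  rw [← conj_le_conj_iff (g := m), conj_eq_of_norm hm.2, conj_conj]
  exact le_inf (b.conj' k).le (cent_symm e)

/-- `N = 𝐍(J) ⊓ 𝐍(E)` is normalized by `a` (`norm_le'`, `a² = 1`). Take `T'` Sylow in `N ⊔ zpowers a` over the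
2-group `R ⊓ (N ⊔ zpowers a)` and `T = T' ⊓ N` (`SylIn.inf_norm`). A Sylow subgroup `T'' ≥ T` of `𝐍(E)` has
`Cf Z E T''` (`exists_ge`), so `𝐉 T'' = J`, `T'' ≤ N` and `T'' = T`. -/
theorem exists_T (hR : IsPGroup 2 R) (h1 : B ≤ R) (h2 : R ≤ 𝐍(J)) (h3 : B ≤ 𝐍(V)) (ha : a ∈ R)
    (a2 : a * a = 1) (n : ¬ V ≤ 𝐂(a ⋆ V)) : ∃ T, Cf (𝛀 S) (J ⊓ 𝐂(V)) T ∧ B ≤ T ∧ a ∈ 𝐍(T) ∧
      R ⊓ 𝐍(J ⊓ 𝐂(V)) ≤ T ∧ SylIn 2 T (𝐍(J) ⊓ 𝐍(J ⊓ 𝐂(V))) := by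
  have aN : a ∈ 𝐍(𝐍(J) ⊓ 𝐍(J ⊓ 𝐂(V))) := norm_of_conj_eq (eq_of_le_of_card_le (by
    rw [conj_inf, conj_normalizer, conj_normalizer, conj_eq_of_norm (h2 ha)]
    exact le_inf inf_le_left (norm_le' b (h2 ha) n)) (card_conj _ _).le).symm
  have bN : B ≤ 𝐍(J) ⊓ 𝐍(J ⊓ 𝐂(V)) := le_inf h.B_norm (norm_inf h.B_norm (norm_cent h3))
  obtain ⟨T', l, hT'⟩ := exists_sylIn_ge (hR.to_le inf_le_left)
    (inf_le_right : R ⊓ ((𝐍(J) ⊓ 𝐍(J ⊓ 𝐂(V))) ⊔ zpowers a) ≤ _)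
  have hT := SylIn.inf_norm hT' le_sup_left (sup_le_norm_left (zpowers_le.2 aN))
  have bT : B ≤ T' ⊓ (𝐍(J) ⊓ 𝐍(J ⊓ 𝐂(V))) := le_inf ((le_inf h1 (bN.trans le_sup_left)).trans l) bN
  obtain ⟨T, l', k⟩ := h.exists_ge (h.pgJ.to_le inf_le_left) (h.Z_le_E b.le) hT.2.1 (h.JB.trans bT)
    (hT.1.trans inf_le_right) fun e => hg (e b.norm_E)
  have j := h.jj _ _ k ((h.JB.trans bT).trans l')
  have e := hT.eq_of_le k.syl.2.1 (le_inf ((le_norm T).trans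
    (j ▸ normalizer_le_normalizer_thompsonSubgroupOf T)) k.syl.1) l'
  refine ⟨_, e ▸ k, bT, zpowers_le.1 (norm_inf (le_norm_of_le (zpowers_le.2 (l ⟨ha, mem_sup_right
    (mem_zpowers a)⟩))) (zpowers_le.2 aN)), fun r hr => ?_, hT⟩
  exact ⟨l ⟨hr.1, mem_sup_left ⟨h2 hr.1, hr.2⟩⟩, h2 hr.1, hr.2⟩

/-- D1. `T` from `exists_T`, `Ot Z J B E T P M V₀ g₀` from `out`. `E ≤ 𝐐 P ≤ 𝐂(𝐘 P) ≤ 𝐂(V₀)`; `J = (a ⋆ V) E`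
(`Tq.le_sup`) and `¬ V₀ ≤ 𝐂(J)` give `¬ a ⋆ V ≤ 𝐂(V₀)`, so `Bq.side_eq` for the block `a ⋆ V` gives
`J ⊓ 𝐂(V₀) = E = J ⊓ 𝐂(𝐘 P)`. `𝐘 P ≤ J`: a member of `maxIn 2 J ⊆ maxIn 2 T` inside `E` (`Tq.repl`) is
centralized by `𝐘 P ≤ T`. `Bq.enlarge` gives the block. `Z ≤ 𝐘 P ⊓ 𝐂(T)` gives `cz`. `nc`: otherwise
`a ⋆ 𝐘 P ≤ E ≤ 𝐂(V)` centralizes `V ⊔ a ⋆ E ≥ J`. -/
theorem exists_tw (hR : IsPGroup 2 R) (h1 : B ≤ R) (h2 : R ≤ 𝐍(J)) (h3 : B ≤ 𝐍(V)) (hA : A ∈ maxIn 2 R)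
    (ha : a ∈ A) (n : ¬ V ≤ 𝐂(a ⋆ V)) : ∃ T P M g', Tw J A T P M g' a := by
  have aJ := h2 (hA.1 ha)
  obtain ⟨T, k, bT, aT, rT, hT⟩ := h.exists_T b hg hR h1 h2 h3 (hA.1 ha) (el_sq hA.2.1 ha) n
  obtain ⟨P, M, V₀, g₀, o⟩ := h.out k bT
  have jT := h.JB.trans bT
  have j := h.jj _ _ k jT
  have eQ : J ⊓ 𝐂(V) ≤ 𝐐 P := le_core (k.W_le.trans o.pm.leP) o.nW k.pg
  have eY : J ⊓ 𝐂(V) ≤ 𝐂(𝐘 P) := eQ.trans (le_centralizer_oz _)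
  have qT : 𝐐 P ≤ T := core_le_of_not_dvd o.pm.syl
  have b' := b.conj' aJ
  have n' : ¬ a ⋆ V ≤ 𝐂(V) := fun e => n (cent_symm e)
  have n₀ : ¬ a ⋆ V ≤ 𝐂(V₀) := fun e => o.bq.nc (cent_symm ((b.toTq.le_sup b'.toTq n).trans
    (sup_le e (eY.trans (cent_anti o.le)))))
  have s := b'.side_eq b.toTq o.bq.toTq n' n₀
  have e1 : J ⊓ 𝐂(𝐘 P) = J ⊓ 𝐂(V) :=
    le_antisymm ((inf_le_inf_left J (cent_anti o.le)).trans s.ge) (le_inf inf_le_left eY)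
  have yJ : 𝐘 P ≤ J := by
    obtain ⟨A₀, hA₀, n₁⟩ : ∃ A₀ ∈ maxIn 2 J, ¬ A₀ ≤ 𝐂(V) := by
      by_contra! c; exact b.nc (cent_symm (h.JJ.ge.trans (thompsonSubgroupOf_le_iff.2 c)))
    have r := b.toTq.repl hA₀ n₁
    obtain ⟨A', hA'⟩ := exists_mem_maxIn 2 T
    exact fun v hv => r.1 (mem_of_mem_maxIn (mem_maxIn_of_exists_le hA' ((le_thompsonSubgroupOf hA').trans j.le)
      jT r) (qT (oz_le _ hv)) (cent_symm ((sup_le (inf_le_inf_right _ hA₀.1) b.toTq.le_E).trans eY) hv)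
      ((oz_elemAb _).2 v hv))
  have bq := o.bq.enlarge (fun e => o.bq.nc (cent_symm (h.JJ.ge.trans e))) o.le yJ (oz_elemAb _)
    ((jT.trans o.pm.leP).trans (norm_Y 2 P)) (s.ge.trans eY)
  have z : 𝛀 S ≤ 𝐘 P ⊓ 𝐂(T) := le_inf (le_oz (oz_elemAb S) (k.le.trans eQ)
    ((cent_symm k.cz).trans (cent_anti qT))) (cent_symm k.cz)
  refine ⟨T, P, M, g₀, o.pm, (inf_le_inf_left P (norm_of_cent (cent_anti z))).trans o.nz, o.gP, o.gM, j, bq,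
    fun x hx => o.le (o.cq x hx), e1 ▸ hT, hA.2.1, hA.1.trans h2,
    fun D hD => hA.2.2 D (hD.trans (sup_le (h.JB.trans h1) hA.1)), ha, aT,
    e1 ▸ (inf_le_inf_right _ hA.1).trans rT, fun e => bq.nc ?_⟩
  rw [← conj_le_conj_iff (g := a), conj_centralizer, conj_eq_of_norm aJ]
  refine (le_cent_sup (((le_inf (conj_le_of_norm yJ aJ) (cent_symm e)).trans e1.le).trans inf_le_right) ?_).trans
    (cent_anti (b'.toTq.le_sup b.toTq n'))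
  rw [← conj_E aJ, ← conj_centralizer]
  exact conj_mono a (cent_symm eY)

omit b hg in
/-- `V`, `g` from `ex` and `out`; `R ≥ B` Sylow in `𝐍(J)`, `R ≤ c ⋆ S`. If `𝐉 R ≤ J` then `𝐉 R = J`,
`R = c ⋆ S` (`eq_of_norm_le`) and `case1` applies. Otherwise `exists_a`, `exists_tw`, `Tw.false`. -/
theorem false : False := by
  obtain ⟨W, T, k, hB⟩ := h.ex
  obtain ⟨P, M, V, g, o⟩ := h.out k hB
  have hg : g ∉ 𝐍(𝛀 S) := fun e => o.gM (o.nz ⟨o.gP, e⟩)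
  obtain ⟨R, bR, hR⟩ := exists_sylIn_ge h.pgB h.B_norm
  by_cases e : 𝐉 R ≤ J
  · obtain ⟨c, hc⟩ := h.toLo.exists_le hR.2.1
    have l := h.toLo.conj c
    have n : 𝐍(R) ≤ 𝐍(J) := by
      have := normalizer_le_normalizer_thompsonSubgroupOf (e := 2) R
      rwa [← thompsonSubgroupOf_eq_of_le e (h.JB.trans bR), h.JJ] at this
    have e' := eq_of_norm_le l.syl.2.1 hc (hR.eq_of_le (l.syl.2.1.to_le inf_le_left) (inf_le_right.trans n)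
      (le_inf hc (le_norm _))).ge
    exact h.case1 o.bq hg (n (e'.symm ▸ l.nS))
  rw [thompsonSubgroupOf_le_iff] at e
  push Not at e
  obtain ⟨A, hA, n⟩ := e
  obtain ⟨a, ha, n'⟩ := h.exists_a o.bq hg hR.2.1 (h.JB.trans bR) hR.1 hA n
  obtain ⟨T', P', M', g', t⟩ := h.exists_tw o.bq hg hR.2.1 bR hR.1 o.nV hA ha n'
  exact t.false h.toLo

end Xt

theorem Lo.wc (h : Lo S y) (h1 : g ⋆ 𝛀 S ≤ S) : g ∈ 𝐍(𝛀 S) :=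
  by_contra fun e => let ⟨_, _, k⟩ := h.exists_xt h1 e; k.false

/-- `t = g x g⁻¹ ∈ S`. `g ⋆ S` is Sylow in `𝐂[t]`, so `Z ≤ S ⊓ 𝐂[t] ≤ (c g) ⋆ S` with `c ∈ 𝐂[t]`; `wc` for
`(c g)⁻¹` gives `c g ∈ 𝐍(Z)` and `t = (c g) x (c g)⁻¹ ∈ Z`. -/
theorem Lo.closed (h : Lo S y) (hx : x ∈ 𝛀 S) (h1 : g * x * g⁻¹ ∈ S) : g * x * g⁻¹ ∈ 𝛀 S := by
  have s : SylIn 2 (g ⋆ S) 𝐂[g * x * g⁻¹] := (h.syl.conj_mem (mem_top g)).of_le (by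
    rw [← conj_cent1]; exact conj_mono g ((le_centralizer_oz S).trans (cent_le_cent1 hx))) le_top
  obtain ⟨c, hc, l⟩ := SylIn.exists_le s (h.syl.2.1.to_le (oz_le S))
    ((oz_le_centralizer S).trans (cent_le_cent1 h1))
  rw [conj_conj, le_conj_iff_inv_conj_le] at l
  have := conj_mem_of_norm (inv_mem_iff.1 (h.wc l)) hx
  rwa [show c * g * x * (c * g)⁻¹ = c * (g * x * g⁻¹) * c⁻¹ by group, mem_cent1.1 hc,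
    mul_inv_cancel_right] at this

end Cfsg.Lib.FQ
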