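import Cfsg.Agent.Lib.FQ.Defs
import Cfsg.Agent.Lib.CS.Good1

/-!
# Pushing up
-/

set_option autoImplicit false
set_option linter.unusedSectionVars false

namespace Cfsg.Lib.FQ

open Subgroup Cfsg.Lib.BG Cfsg.Lib.Transfer Cfsg.Lib.Loc Cfsg.Lib.PLocal Cfsg.Lib.CGT Cfsg.Lib.PU
open Cfsg.Lib.CS
open scoped commutatorElement

variable {G : Type*} [Group G] [Finite G] {B C L M Q : Subgroup G}

omit [Finite G] in
theorem ch_equiv {H H' : Type*} [Group H] [Group H'] (e : H ≃* H') {A D : Subgroup H}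
    (h : ∀ φ : H ≃* H, A.map (φ : H →* H) = A → D.map (φ : H →* H) = D) (φ : H' ≃* H')
    (k : (A.map (e : H →* H')).map (φ : H' →* H') = A.map (e : H →* H')) :
    (D.map (e : H →* H')).map (φ : H' →* H') = D.map (e : H →* H') := by
  have a : ∀ X : Subgroup H, (X.map (e.trans (φ.trans e.symm) : H →* H)).map (e : H →* H') =
      (X.map (e : H →* H')).map (φ : H' →* H') := fun X => by
    rw [map_map, map_map]; congr 1; ext x; simp
  rw [← a, h _ (map_injective (f := (e : H →* H')) e.injective ((a A).trans k))]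

omit [Finite G] in
/-- Transfer along a homomorphism that is injective on `B`: `B ≃* B.map f`. -/
theorem ch_map {G' : Type*} [Group G'] {f : G →* G'} (hf : B ⊓ f.ker = ⊥) (hQ : Q ≤ B) (hC : C ≤ B) :
    Ch (B.map f) (Q.map f) (C.map f) ↔ Ch B Q C := by
  let e : B ≃* B.map f := MulEquiv.ofBijective (f.subgroupMap B) ⟨(injective_iff_map_eq_one _).2
    fun x hx => Subtype.ext (mem_bot.1 (hf ▸ mem_inf.2 ⟨x.2, congrArg Subtype.val hx⟩)),
    f.subgroupMap_surjective B⟩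
  have a : ∀ D ≤ B, (D.subgroupOf B).map (e : B →* B.map f) = (D.map f).subgroupOf (B.map f) := fun D hD => by
    ext x
    exact ⟨fun ⟨y, hy, e'⟩ => ⟨y, hy, congrArg Subtype.val e'⟩,
      fun ⟨y, hy, e'⟩ => ⟨⟨y, hD hy⟩, hy, Subtype.ext e'⟩⟩
  have b : ∀ D ≤ B, ((D.map f).subgroupOf (B.map f)).map (e.symm : B.map f →* B) = D.subgroupOf B :=
    fun D hD => by rw [← a D hD, map_map]; convert Subgroup.map_id _; ext x; simp
  refine ⟨fun h => ?_, fun h => ?_⟩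
  · have := ch_equiv e.symm h
    rwa [b Q hQ, b C hC] at this
  · have := ch_equiv e h
    rwa [a Q hQ, a C hC] at this

omit [Finite G] in
theorem ch_cent (hQ : Q ≤ B) : Ch B Q (Q ⊔ B ⊓ 𝐂(Q)) := by
  intro φ e
  have a : (B ⊓ 𝐂(Q)).subgroupOf B = 𝐂(Q.subgroupOf B) := Subgroup.ext fun x =>
    ⟨fun hx y hy => Subtype.ext (hx.2 y hy), fun hx => ⟨x.2, fun y hy =>
      congrArg Subtype.val (hx ⟨y, hQ hy⟩ hy)⟩⟩
  rw [subgroupOf_sup hQ inf_le_left, Subgroup.map_sup, e, a]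
  congr 1
  ext x
  obtain ⟨x, rfl⟩ := φ.surjective x
  conv_rhs => rw [← e]
  exact (mem_map_iff_mem (f := (φ : B →* B)) φ.injective).trans
    (mem_cent_map (f := (φ : B →* B)) φ.injective).symm

omit [Finite G] in
/-- Use the automorphisms of `B` induced by `𝐍(B)`. -/
theorem Ch.norm_le (h : Ch B Q C) (hQ : Q ≤ B) (hC : C ≤ B) : 𝐍(B) ⊓ 𝐍(Q) ≤ 𝐍(C) := by
  intro n hn
  have a : ∀ D ≤ B, ((D.subgroupOf B).map ((B.normalizerMonoidHom ⟨n, hn.1⟩ : B ≃* B) : B →* B)).map B.subtype =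
      n ⋆ D := fun D hD => by
    conv_rhs => rw [← map_subgroupOf_eq_of_le hD]
    rw [map_map, map_map]; rfl
  refine norm_of_conj_eq ?_
  rw [← a C hC, h _ (map_injective B.subtype_injective ?_), map_subgroupOf_eq_of_le hC]
  rw [a Q hQ, map_subgroupOf_eq_of_le hQ, conj_eq_of_norm hn.2]

theorem map_comap_char {H K : Type*} [Group H] [Finite H] [Group K] {π : H →* K} (hπ : Function.Surjective π)
    (T : Subgroup K) [T.Characteristic] (φ : H ≃* H) (h : π.ker.map (φ : H →* H) = π.ker) :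
    (T.comap π).map (φ : H →* H) = T.comap π := by
  let e := QuotientGroup.quotientKerEquivOfSurjective π hπ
  let ψ := e.symm.trans ((QuotientGroup.congr _ _ φ h).trans e)
  refine eq_of_le_of_card_ge ?_ (card_map_of_injective φ.injective).ge
  rintro _ ⟨x, hx, rfl⟩
  have : ψ (π x) = π (φ x) := by
    rw [show π x = e (x : H ⧸ π.ker) from rfl]
    simp only [ψ, MulEquiv.trans_apply, MulEquiv.symm_apply_apply]
    rfl
  exact mem_comap.2 (this ▸ characteristic_iff_map_le.1 inferInstance ψ ⟨_, hx, rfl⟩)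

/-- In `G̃ = G ⧸ Q` (`Rk0.quot`; `Q ≤ 𝐐 ⊤`): `G̃` has characteristic 2, for the preimage `K` of `𝐂(𝐐 G̃)` has
`⁅𝐐 ⊤, K⁆ ≤ Q`, `𝐑 K ≤ 𝐑 ⊤ ≤ 𝐂(Q)`, so `𝐑 K ≤ 𝐂(𝐐 ⊤)` (`res_le_centralizer_of_commutator`) and `K` is a
normal 2-group (`IsChP.isPGroup_of_res_le`). A characteristic subgroup of `B̃` normal in `G̃` has a preimage
`C` as in `hm`, so `Rk0.cfg` applies; `Cfg2.ne_two`, `Cfg1.comm_res` give `⁅Q̃, F̃⁆ ≤ Ỹ` (`F = 𝐑 ⊤`) and
`FF 2 B̃ ⊤`. Put `U = ⁅𝐐 ⊤, F⁆ = ⁅U, F⁆`, `W = ⁅𝐘 ⊤, F⁆ = ⁅W, F⁆ ≠ ⊥`. The image `W̃ ≤ Ũ ≤ Ỹ` is normal and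
not central (else `W = ⁅W, F, F⁆ ≤ ⁅Q, F⁆ = ⊥`), so `CS.FF.irr` gives `Ỹ ≤ W̃ ⊔ 𝐂(⊤)`, `Ũ = ⁅Ũ, F̃⁆ ≤ W̃`,
`U ≤ W ⊔ Q` and `U = ⁅U, F⁆ ≤ W`. -/
theorem push_top (h1 : IsChP 2 (⊤ : Subgroup G)) (h2 : Rk0 2 B M ⊤) (h3 : ¬ 𝐑 ⊤ ≤ 𝐂(𝐘 (⊤ : Subgroup G)))
    (hQ : Q ≤ B) [Q.Normal] (hc : 𝐑 ⊤ ≤ 𝐂(Q)) (hm : ∀ C, Q ≤ C → C ≤ B → C.Normal → Ch B Q C → C ≤ Q) :
    ⁅𝐐 (⊤ : Subgroup G), 𝐑 (⊤ : Subgroup G)⁆ ≤ 𝐖 (⊤ : Subgroup G) := by
  have q1 : Q ≤ 𝐐 ⊤ := le_core le_top le_normalizer_of_normal (h2.pmin.pgroup.to_le hQ)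
  obtain ⟨r, e⟩ := h2.quot Q q1
  set f := QuotientGroup.mk' Q
  have hf : Function.Surjective f := QuotientGroup.mk'_surjective Q
  have cm : ∀ {A D : Subgroup G}, A.map f ≤ D.map f → A ≤ D ⊔ Q := fun {A D} h =>
    (map_le_iff_le_comap.1 h).trans (Core.comap_map_mk' ..).le
  have kq : ∀ {A : Subgroup G}, A.map f = ⊥ → A ≤ Q := fun h =>
    QuotientGroup.ker_mk' Q ▸ (Subgroup.map_eq_bot_iff _).1 h
  have eR : (𝐑 (⊤ : Subgroup G)).map f = 𝐑 ⊤ := by rw [map_res, map_top_of_surjective _ hf]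
  have pq := h2.pmin.pgroup.to_le hQ
  have c : IsChP 2 (⊤ : Subgroup (G ⧸ Q)) := by
    have a : IsPGroup 2 (𝐂(𝐐 (⊤ : Subgroup (G ⧸ Q))).comap f) := h1.isPGroup_of_res_le le_top
      (res_le_centralizer_of_commutator pq (kq (by
        rw [map_commutator, e]
        exact comm_eq_bot_iff'.2 ((map_mono (res_le 2 _)).trans (map_comap_le _ _))))
        ((res_mono le_top).trans hc))
    refine inf_le_right.trans (le_core le_top (norm_cent (le_normalizer_core 2 _)) ?_)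
    exact map_comap_eq_self_of_surjective hf 𝐂(𝐐 (⊤ : Subgroup (G ⧸ Q))) ▸ a.map f
  obtain ⟨A, P, k⟩ := (r.cfg c fun T t0 _ t1 => t0 (by
    have a := hm ((T.map (B.map f).subtype).comap f) (fun x hx => by
        rw [mem_comap, show f x = 1 from (QuotientGroup.eq_one_iff x).2 hx]; exact one_mem _)
      ((cm ((map_comap_le _ _).trans (map_subtype_le _))).trans (sup_le le_rfl hQ)) (t1.comap f) fun φ hφ => by
        have b1 : Q.subgroupOf B = (f.subgroupMap B).ker := Subgroup.ext fun x =>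
          ⟨fun hx => Subtype.ext ((QuotientGroup.eq_one_iff (x : G)).2 hx),
            fun hx => (QuotientGroup.eq_one_iff (x : G)).1 (congrArg Subtype.val hx)⟩
        have b2 : ((T.map (B.map f).subtype).comap f).subgroupOf B = T.comap (f.subgroupMap B) :=
          Subgroup.ext fun x => mem_map_iff_mem (f := (B.map f).subtype) (x := f.subgroupMap B x)
            (B.map f).subtype_injective
        rw [b2]
        exact map_comap_char (f.subgroupMap_surjective B) T φ (b1 ▸ hφ)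
    rw [← map_eq_bot_iff_of_injective _ (B.map f).subtype_injective,
      ← map_comap_eq_self_of_surjective hf (T.map (B.map f).subtype), Subgroup.map_eq_bot_iff,
      QuotientGroup.ker_mk']
    exact a)).resolve_right fun ⟨_, _, _, k⟩ => k.ne_two rfl
  have u := commutator_res_res (core_pgroup 2 (⊤ : Subgroup G)) (le_normalizer_core 2 ⊤)
  have w1 : ⁅𝐘 (⊤ : Subgroup G), 𝐑 (⊤ : Subgroup G)⁆ ≤ ⁅𝐐 (⊤ : Subgroup G), 𝐑 (⊤ : Subgroup G)⁆ :=
    commutator_mono (oz_le _) le_rfl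
  have u1 : ⁅𝐐 (⊤ : Subgroup G), 𝐑 (⊤ : Subgroup G)⁆.map f ≤ 𝐘 (⊤ : Subgroup (G ⧸ Q)) := by
    rw [map_commutator, e, eR]; exact k.comm_res
  have n : (⊤ : Subgroup (G ⧸ Q)) ≤ 𝐍(⁅𝐘 (⊤ : Subgroup G), 𝐑 (⊤ : Subgroup G)⁆.map f) :=
    map_top_of_surjective _ hf ▸ map_norm f CS.FF.normW
  have i := (CS.FF.irr k.ff ((map_mono w1).trans u1) n).resolve_left fun a => h3 (by
    refine res_le_centralizer_of_commutator_self CS.FF.pgroupY (norm_Y 2 ⊤)
      (res_le_centralizer_of_commutator pq (kq ?_) hc)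
    rw [map_commutator]
    exact comm_eq_bot_iff.2 (a.trans (cent_anti le_top)))
  have cs : ∀ {H : Type _} [Group H] {W D F : Subgroup H}, F ≤ 𝐍(W) → D ≤ 𝐍(W) → D ≤ 𝐂(F) → ⁅W ⊔ D, F⁆ ≤ W :=
    fun a b d => comm_sup_le (le_norm _) b (comm_le_left a) ((comm_eq_bot_iff.2 d).le.trans bot_le)
  have u2 : ⁅𝐐 (⊤ : Subgroup G), 𝐑 (⊤ : Subgroup G)⁆ ≤ ⁅𝐘 (⊤ : Subgroup G), 𝐑 (⊤ : Subgroup G)⁆ ⊔ Q := cm (by
    rw [← u, map_commutator]
    exact (commutator_mono (u1.trans i) le_rfl).trans (cs (le_top.trans n) (le_top.trans n)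
      (inf_le_right.trans (cent_anti le_top))))
  rw [← u]
  exact ((commutator_mono u2 le_rfl).trans (cs (le_top.trans CS.FF.normW) (le_top.trans CS.FF.normW)
    (cent_symm hc))).trans (commutator_mono le_rfl le_top)

/-- Pass to the group `L` (`Rk0.of_map`, `isChP_map_iff`, `map_core`, `map_res`, `map_Y`, `ch_map`). -/
theorem push (h1 : IsChP 2 L) (h2 : Rk0 2 B M L) (h3 : ¬ 𝐑 L ≤ 𝐂(𝐘 L)) (hQ : Q ≤ B) (hn : L ≤ 𝐍(Q))
    (hc : 𝐑 L ≤ 𝐂(Q)) (hm : ∀ C, Q ≤ C → C ≤ B → L ≤ 𝐍(C) → Ch B Q C → C ≤ Q) : ⁅𝐐 L, 𝐑 L⁆ ≤ 𝐖 L := by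
  have hf := L.subtype_injective
  have hB := h2.le
  have e : ∀ {D : Subgroup G}, D ≤ L → (D.subgroupOf L).map L.subtype = D := map_subgroupOf_eq_of_le
  have t : (⊤ : Subgroup L).map L.subtype = L := by rw [← MonoidHom.range_eq_map, range_subtype]
  haveI := (normal_subgroupOf_iff_le_normalizer (hQ.trans hB)).2 hn
  have := map_mono (f := L.subtype) (push_top (B := B.subgroupOf L) (Q := Q.subgroupOf L)
    ((isChP_map_iff hf).1 (t.symm ▸ h1)) (Rk0.of_map hf (by rw [e hB, t]; exact h2))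
    (fun a => h3 (by have := map_cent L.subtype a; rwa [map_res, map_Y hf, t] at this))
    (subgroupOf_mono L hQ) (cent_of_map hf (by rw [map_res, t, e (hQ.trans hB)]; exact hc))
    fun C a b c d => map_le_iff_le_comap.1 (hm _ (e (hQ.trans hB) ▸ map_mono a) (e hB ▸ map_mono b)
      (Core.le_normalizer_map_subtype C) (by
        have := (ch_map (f := L.subtype) (by rw [ker_subtype, inf_bot_eq]) (subgroupOf_mono L hQ) b).2 d
        rwa [e hB, e (hQ.trans hB)] at this)))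
  rwa [map_commutator, map_commutator, map_core hf, map_res, map_Y hf, t] at this

end Cfsg.Lib.FQ
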