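import Cfsg.Agent.Lib.FQ.EX0
import Cfsg.Agent.Lib.FQ.Push
import Cfsg.Agent.Lib.B2C.FFa

/-!
# The block in a group of characteristic 2
-/

set_option autoImplicit false
set_option linter.unusedSectionVars false

namespace Cfsg.Lib.FQ

open Subgroup Cfsg.Lib.BG Cfsg.Lib.Transfer Cfsg.Lib.Loc Cfsg.Lib.PLocal Cfsg.Lib.CGT Cfsg.Lib.PU
open Cfsg.Lib.CS
open scoped commutatorElement

variable {G : Type*} [Group G] [Finite G] {B L M T : Subgroup G} {I : Subgroup G → Prop} {g : G}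

/-- The fields are `FF.W_el`, `W_le_Q`, `nW`, `R_eq`, `quad`, `idx_P`, `inf_cent_W`, `nd` of `B2C/FFa`; for
`nd`, `⁅t, v⁆ ∈ 𝐂(B) ⊓ 𝐂[g]` centralizes `B ⊔ g ⋆ B ≥ L`. -/
theorem bq_of_ff (h : FF 2 B L) (hp : ⁅𝐐 L, 𝐑 L⁆ ≤ 𝐖 L) (hg : g ∈ 𝐑 L) (e : L ≤ B ⊔ g ⋆ B) :
    Bq B (𝐖 L) g := by
  have key : ∀ v ∈ 𝐖 L, ∀ t ∈ B, ⁅t, v⁆ ∈ 𝐂[g] → t ∈ 𝐂(𝐖 L) ∨ v ∈ 𝐂(B) := fun v hv t ht c => by
    have a : ⁅t, v⁆ ∈ 𝐂(B) := h.quad (commutator_comm B _ ▸ commutator_mem_commutator ht (h.W_le_Y hv))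
    refine (h.nd ht (h.W_le_Y hv) (cent_anti ((res_le 2 L).trans e) (le_cent_sup
      (zpowers_le.2 a) (zpowers_le.2 ?_) (mem_zpowers _)))).imp_left fun e => (h.inf_cent_W.ge e).2
    rw [← conj_centralizer, Transfer.mem_conj, mul_assoc, mem_cent1.1 c, inv_mul_cancel_left]
    exact a
  refine ⟨⟨h.W_el, h.W_le_Q.trans h.core_le, h.syl.1.trans ((le_norm L).trans h.nW), h.R_eq ▸ h.quad,
    fun c => h.not_R_le (h.R_eq.le.trans ((comm_eq_bot_iff.2 c).le.trans bot_le)), ?_,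
    fun v hv t ht c => key v hv t ht (commutatorElement_eq_one_iff_mul_comm.2 c ▸ one_mem _)⟩,
    fun x hx => hp (commutator_mem_commutator (h.inf_cent_W.le hx) hg), key⟩
  rw [h.idx_P, ← inf_relIndex_left B 𝐂(𝐖 L), h.inf_cent_W]

namespace Pre

variable (h : Pre T M ⊤ I) (hc : IsChP 2 (⊤ : Subgroup G))
include h hc

/-- `𝛀 T ≤ 𝐘 ⊤ ⊓ 𝐂(T)` by `IsChP.oz_le_oz_core`, and conversely. -/
theorem cz' : 𝐂(𝛀 T) ≤ M := by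
  exact fun x hx => h.cz ⟨trivial, cent_anti (le_oz (PGroup.elemAb_of_le (oz_elemAb _) inf_le_left)
    (inf_le_left.trans ((oz_le _).trans (core_le_of_not_dvd h.pm.syl))) inf_le_right) hx⟩

omit h hc in
theorem oz_le_Y (k : Good 2 (𝐁 T) M L) : 𝛀 T ≤ 𝐘 L := by
  obtain ⟨M', r⟩ := k.rk
  exact (le_oz (oz_elemAb T) (le_inf (oz_le T) (cent_mono (oz_le_centralizer T) le_rfl (zj_le T)))
    (cent_mono (oz_le_centralizer T) le_rfl inf_le_left)).trans (k.chp.oz_le_oz_core r.le r.core_le)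

/-- `𝛀 T ≤ 𝐁 T ⊓ 𝐂(𝐁 T)` lies in `𝐘 L`, and `L = 𝐑 L ⊔ 𝐁 T` is not in `M`. -/
theorem nc (k : Good 2 (𝐁 T) M L) : ¬ 𝐑 L ≤ 𝐂(𝐘 L) := by
  obtain ⟨M', r⟩ := k.rk
  exact fun e => k.nle (r.le_of_res_le ((e.trans (cent_anti (oz_le_Y k))).trans (h.cz' hc))
    (inf_le_left.trans h.pm.le))

/-- Take `Q` maximal with `I Q`, `Q ≤ B`, `L ≤ 𝐍(Q)`. If `𝐑 L ≤ 𝐂(Q)` use `push` (`i1`). Otherwise
`Rk0.res_le_or` gives `B ⊓ 𝐂(Q) ≤ 𝐐 L`, so `B ⊓ 𝐂(Q) = 𝐐 L ⊓ 𝐂(Q)` is normal in `L`, `ch_cent` and the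
maximality give `B ⊓ 𝐂(Q) ≤ Q`, and `i2` gives `L ≤ 𝐍(Q) ≤ M`. -/
theorem comm_le (k : Good 2 (𝐁 T) M L) : ⁅𝐐 L, 𝐑 L⁆ ≤ 𝐖 L := by
  obtain ⟨M', r⟩ := k.rk
  obtain ⟨Q, -, ⟨q1, q2, q3⟩, hm⟩ := Core.exists_maximal_ge (P := fun Q => I Q ∧ Q ≤ 𝐁 T ∧ L ≤ 𝐍(Q))
    ⟨h.i0, bot_le, le_normalizer_of_normal⟩
  have m : ∀ C, Q ≤ C → C ≤ 𝐁 T → L ≤ 𝐍(C) → Ch (𝐁 T) Q C → C ≤ Q := fun C a b c d =>
    (hm C ⟨h.i1 Q C q1 a b d, b, c⟩ a).le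
  rcases r.res_le_or (norm_cent q3) with e | ⟨-, e⟩
  · exact push k.chp r (h.nc hc k) q2 q3 e m
  refine absurd ((le_inf le_top q3).trans (h.i2 Q q2 q1 (le_sup_right.trans (m _ le_sup_left
    (sup_le q2 inf_le_left) (norm_sup q3 ?_) (ch_cent q2))))) k.nle
  rw [le_antisymm (le_inf e inf_le_right) (inf_le_inf_right _ r.core_le)]
  exact norm_inf (le_normalizer_core 2 L) (norm_cent q3)

/-- If every member of `maxIn 2 (𝐁 T)` lies in `𝐐 L` then `𝐉 T = 𝐉 (𝐁 T) = 𝐉 (𝐐 L)` and `L ≤ 𝐍(𝐉 T) ≤ M`. -/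
theorem not_le (k : Good 2 (𝐁 T) M L) : ¬ 𝐉 T ≤ 𝐐 L := by
  obtain ⟨M', r⟩ := k.rk
  refine fun e => k.nle ((le_inf le_top ?_).trans h.nj)
  rw [← thompsonSubgroupOf_eq_of_le e (r.core_le.trans inf_le_left)]
  exact (le_normalizer_core 2 L).trans (normalizer_le_normalizer_thompsonSubgroupOf _)

/-- `L` from `ex0`, `FF` from `B2C.ff_of_max`, `g` from `FF.exists_gen`, `V = 𝐖 L`, `F = 𝐑 L`.
`⁅𝐐 ⊤, F⁆ ≤ 𝐐 ⊤ ⊓ L ≤ 𝐐 L` and `⁅𝐐 ⊤, F⁆ = ⁅𝐐 ⊤, F, F⁆ ≤ 𝐖 L`. `N = ⁅𝐘 ⊤, F⁆ = ⁅N, F⁆ ≤ 𝐖 L` is normal in `L`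
and not `⊥` (`𝛀 T ≤ 𝐘 ⊤`, `cz'`), so `CS.FF.irr` gives `𝐖 L = ⁅𝐘 L, F⁆ ≤ N ≤ 𝐘 ⊤`. -/
theorem post_chp : ∃ V g, Post T M ⊤ V g := by
  obtain ⟨L, k, hQ⟩ := ex0 hc h.pm (h.cz' hc) fun x hx => h.nj ⟨trivial, by
    rw [← thompsonSubgroupOf_eq_of_le (thompson_le_baum T) inf_le_left]
    exact normalizer_le_normalizer_thompsonSubgroupOf _ hx⟩
  obtain ⟨M', r⟩ := k.rk
  obtain ⟨A, hA, n⟩ : ∃ A ∈ maxIn 2 T, ¬ A ≤ 𝐐 L := by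
    by_contra! e
    exact h.not_le hc k (thompsonSubgroupOf_le_iff.2 e)
  have f := B2C.ff_of_max k.chp r (h.nc hc k) (mem_maxIn_of_le hA ((le_thompsonSubgroupOf hA).trans
    (thompson_le_baum T)) inf_le_left) n
  obtain ⟨g, hg, e⟩ := f.exists_gen
  have p := h.comm_le hc k
  have nq : L ≤ 𝐍(𝐐 (⊤ : Subgroup G)) := le_top.trans (le_normalizer_core 2 ⊤)
  have q : ⁅𝐐 (⊤ : Subgroup G), 𝐑 L⁆ ≤ 𝐖 L := by
    rw [← commutator_res_res (core_pgroup 2 ⊤) nq]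
    refine (commutator_mono ((le_inf (comm_le_left ((res_le 2 L).trans nq)) ((comm_le_right (hQ.trans
      (normalizer_le_normalizer_res 2 L))).trans (res_le 2 L))).trans (core_inf_le le_top)) le_rfl).trans p
  have ny : L ≤ 𝐍(𝐘 (⊤ : Subgroup G)) := le_top.trans (norm_Y 2 ⊤)
  have nn := norm_comm ny (le_normalizer_res 2 L)
  have y : ⁅𝐘 (⊤ : Subgroup G), 𝐑 L⁆ ≤ 𝐖 L := (commutator_mono (oz_le _) le_rfl).trans q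
  have tm : 𝐁 T ≤ M := inf_le_left.trans h.pm.le
  have i : 𝐘 L ≤ ⁅𝐘 (⊤ : Subgroup G), 𝐑 L⁆ ⊔ 𝐘 L ⊓ 𝐂(L) :=
    (CS.FF.irr f (y.trans f.W_le_Y) nn).resolve_left fun a => k.nle (r.le_of_res_le
      (fun x hx => h.cz (mem_inf.2 ⟨mem_top x, cent_anti inf_le_left (res_le_centralizer_of_commutator_self
        CS.FF.pgroupY ny ((res_le 2 L).trans (cent_symm a)) hx)⟩)) tm)
  have j : ⁅𝐘 L, 𝐑 L⁆ ≤ 𝐘 (⊤ : Subgroup G) :=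
    (commutator_mono i le_rfl).trans (comm_sup_le (le_top.trans (norm_Y 2 ⊤)) (le_top.trans (norm_Y 2 ⊤))
      ((comm_le_left (right_norm_comm _ _)).trans (comm_le_left ((res_le 2 L).trans ny)))
      ((comm_eq_bot_iff.2 (inf_le_right.trans (cent_anti (res_le 2 L)))).le.trans bot_le))
  exact ⟨𝐖 L, g, mem_top g, fun a => k.nle (e.trans (sup_le tm (conj_le_of_mem tm a))), bq_of_ff f p hg e,
    fun a => h.not_le hc k ((le_inf (thompson_le_baum T) a).trans f.inf_cent_W.le), f.W_eq.le.trans j,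
    fun x hx => q (commutator_mem_commutator hx hg)⟩

end Pre

end Cfsg.Lib.FQ
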