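import Cfsg.Agent.Lib.FQ.Defs

/-!
# A family of pairs of involutions in a 2-group, I

Notation of the docstrings: `E(z, u) = S ⊓ 𝐂[z] ⊓ 𝐂[u]`, `D(z, u)` the subgroup of `Pw.sq`.
-/

set_option autoImplicit false
set_option linter.unusedSectionVars false

namespace Cfsg.Lib.FQ

open Subgroup Cfsg.Lib.BG Cfsg.Lib.Transfer Cfsg.Lib.Loc Cfsg.Lib.PLocal Cfsg.Lib.CGT Cfsg.Lib.PU
open Cfsg.Lib.CS
open scoped commutatorElement

variable {G : Type*} [Group G] [Finite G] {S : Subgroup G} {P : G → G → Prop} {b u v w x z : G}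

omit [Finite G] in
theorem pu_inv (h : x * x = 1) : x⁻¹ = x := inv_eq_of_mul_eq_one_right h

omit [Finite G] in
theorem pu_zp (z2 : z * z = 1) (hx : x ∈ zpowers z) : x = 1 ∨ x = z := by
  obtain ⟨n, rfl⟩ := mem_zpowers_iff.1 hx
  have : z ^ (2 : ℤ) = 1 := by rwa [zpow_two]
  rcases Int.even_or_odd' n with ⟨k, rfl | rfl⟩ <;> simp [zpow_add, zpow_mul, this]

omit [Finite G] in
theorem pu_four {k : ℕ} (hx : x ^ 2 ^ k = 1) (n : x * x ≠ 1) :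
    ∃ m : ℕ, x ^ m * x ^ m ≠ 1 ∧ x ^ m * x ^ m * (x ^ m * x ^ m) = 1 := by
  induction k generalizing x with
  | zero => exact absurd (by rw [show x = 1 by simpa using hx, one_mul]) n
  | succ k ih =>
    by_cases c : x * x * (x * x) = 1
    · exact ⟨1, by rwa [pow_one], by rwa [pow_one]⟩
    · obtain ⟨m, hm⟩ := ih (x := x * x) (by rwa [← pow_two, ← pow_mul, ← pow_succ']) c
      exact ⟨2 * m, by rwa [pow_mul, pow_two]⟩

omit [Finite G] in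
theorem pu_comm (x2 : x * x = 1) (v2 : v * v = 1) (e : x * v * (x * v) = 1) : x * v = v * x := by
  rw [← pu_inv e, mul_inv_rev, pu_inv x2, pu_inv v2]

/-- The elements of `𝐂[z]` that map `u` to `u` or `u z`. -/
def Kz (z u : G) (z2 : z * z = 1) : Subgroup G where
  carrier := {k | k * z * k⁻¹ = z ∧ (k * u * k⁻¹ = u ∨ k * u * k⁻¹ = u * z)}
  one_mem' := by simp
  mul_mem' {k l} := by
    rintro ⟨a, b⟩ ⟨c, d⟩
    have e : ∀ x, k * l * x * (k * l)⁻¹ = k * (l * x * l⁻¹) * k⁻¹ := fun x => by group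
    refine ⟨by rw [e, c, a], ?_⟩
    rw [e]
    rcases d with d | d <;> rw [d]
    · exact b
    · rw [show k * (u * z) * k⁻¹ = k * u * k⁻¹ * (k * z * k⁻¹) by group, a]
      exact b.symm.imp (fun b => by rw [b, mul_assoc, z2, mul_one]) fun b => by rw [b]
  inv_mem' {k} := by
    rintro ⟨a, b⟩
    have e : ∀ {x y}, k * x * k⁻¹ = y → k⁻¹ * y * k⁻¹⁻¹ = x := fun e => by rw [← e]; group
    refine ⟨e a, b.imp e fun b => e ?_⟩
    rw [show k * (u * z) * k⁻¹ = k * u * k⁻¹ * (k * z * k⁻¹) by group, a, b, mul_assoc, z2, mul_one]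

namespace Pw

variable (h : Pw S P)
include h

theorem cjz {n : G} (a : P z u) (hn : n ∈ S) (e : n * z = z * n) : P z (n * u * n⁻¹) := by
  have := h.cj n (le_norm S hn) z u a
  rwa [e, mul_inv_cancel_right] at this

theorem nbc (a : P z u) (e : ⁅u, w⁆ = z) : w * u * w⁻¹ = u * z := by
  rw [← e, commutatorElement_def, pu_inv (h.mem _ _ a).2.2.2.1, ← mul_assoc, ← mul_assoc, ← mul_assoc, (h.mem _ _ a).2.2.2.1, one_mul]

/-- `w u w⁻¹ = u z` for the neighbour `w`. -/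
theorem mz (a : P z u) : P z (u * z) := by
  obtain ⟨w, c, e, -⟩ := h.nb _ _ a
  exact h.nbc a e ▸ h.cjz a (h.mem _ _ c).2.1 (h.mem _ _ c).2.2.2.2.2.symm

/-- A commutator is a product of squares, all in `D(z, u)`. -/
theorem comm_ne (a : P z u) (hx : x ∈ S ⊓ 𝐂[z] ⊓ 𝐂[u]) (hv : v ∈ S ⊓ 𝐂[z] ⊓ 𝐂[u]) : ⁅x, v⁆ ≠ z := fun e => by
  obtain ⟨D, n, H⟩ := h.sq _ _ a
  refine n ?_
  rw [← e, show ⁅x, v⁆ = x * x * (x⁻¹ * v * (x⁻¹ * v)) * (v * v)⁻¹ by rw [commutatorElement_def]; group]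
  exact mul_mem (mul_mem (H x hx) (H _ (mul_mem (inv_mem hx) hv))) (inv_mem (H v hv))

/-- L1. Take a counterexample `(u, v)` with `I = E(z, u) ⊓ E(z, v)` of maximal order. `I < E(z, u)` by `inj`,
so there is `x ∈ E(z, u) ⊓ 𝐍(I)` outside `I`; likewise `x'` for `v`. Let `H = S ⊓ 𝐂[z] ⊓ 𝐍(I)` and
`K = H ⊓ 𝐍(zpowers u ⊔ zpowers z) = {k ∈ H | k u k⁻¹ ∈ {u, u z}}`. For `n ∈ H ⊓ 𝐍(K)` put `w = n u n⁻¹ ∈ I`;
`I ≤ E(z, w)`, and `x ∈ K = n ⋆ K` gives `x w x⁻¹ ∈ {w, w z}`; `w z` is excluded by `comm_ne`, so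
`E(z, u) ⊓ E(z, w) > I` and `w ∈ {u, u z}` by maximality. So `H ⊓ 𝐍(K) ≤ K`, `K = H ∋ x'`, and
`x' u x'⁻¹ ∈ {u, u z}` contradicts `x' ∉ I` or `comm_ne`. -/
theorem l1 (a : P z u) (c : P z v) (e : u * v = v * u) : v = u ∨ v = u * z := by
  by_contra n
  obtain ⟨⟨u, v⟩, ⟨a, c, e, n⟩, mx⟩ := Set.exists_max_image
    {p : G × G | P z p.1 ∧ P z p.2 ∧ p.1 * p.2 = p.2 * p.1 ∧ ¬(p.2 = p.1 ∨ p.2 = p.1 * z)}
    (fun p => Nat.card ↥(S ⊓ 𝐂[z] ⊓ 𝐂[p.1] ⊓ 𝐂[p.2])) (Set.toFinite _) ⟨(u, v), a, c, e, n⟩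
  dsimp only at a c e n mx
  obtain ⟨-, uS, z2, u2, -, zu⟩ := h.mem _ _ a
  obtain ⟨I, hI⟩ : ∃ I, I = S ⊓ 𝐂[z] ⊓ 𝐂[u] ⊓ 𝐂[v] := ⟨_, rfl⟩
  have pg : ∀ X : Subgroup G, IsPGroup 2 ↥(S ⊓ 𝐂[z] ⊓ X) := fun X => h.pg.to_le (inf_le_left.trans inf_le_left)
  have gr : ∀ X : Subgroup G, I ≤ S ⊓ 𝐂[z] ⊓ X → ¬S ⊓ 𝐂[z] ⊓ X ≤ I → ∃ x ∈ S ⊓ 𝐂[z] ⊓ X, x ∈ 𝐍(I) ∧ x ∉ I := fun X h1 h2 => by
    obtain ⟨x, hx, n⟩ := SetLike.exists_of_lt (nil_norm_grow (pgroup_nil (pg X)) (lt_of_le_not_ge h1 h2))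
    exact ⟨x, hx.1, hx.2, n⟩
  obtain ⟨x, hx, xN, xI⟩ := gr 𝐂[u] (hI ▸ inf_le_left) fun k => n (h.inj _ _ _ a c (k.trans (hI ▸ inf_le_right)))
  obtain ⟨x', hx', xN', xI'⟩ := gr 𝐂[v] (hI ▸ le_inf (inf_le_left.trans inf_le_left) inf_le_right) fun k => n
    ((h.inj _ _ _ c a (k.trans (hI ▸ inf_le_left.trans inf_le_right))).imp Eq.symm fun k => by rw [k, mul_assoc, z2, mul_one])
  have uI : u ∈ I := hI ▸ ⟨⟨⟨uS, mem_cent1.2 zu.symm⟩, self_mem_cent1 u⟩, mem_cent1.2 e⟩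
  have cz : ∀ {k}, k ∈ 𝐂[z] → k * z * k⁻¹ = z := fun hk => mul_inv_eq_iff_eq_mul.2 (mem_cent1.1 hk)
  have key : S ⊓ 𝐂[z] ⊓ 𝐍(I) ≤ Kz z u z2 := by
    obtain ⟨k, hk, kN, nk⟩ | k := (em _).imp (fun k : ¬S ⊓ 𝐂[z] ⊓ 𝐍(I) ≤ Kz z u z2 => by
      obtain ⟨x, hx, n⟩ := SetLike.exists_of_lt (nil_norm_grow (pgroup_nil (pg 𝐍(I)))
        (lt_of_le_not_ge (inf_le_left : _ ⊓ Kz z u z2 ≤ _) fun c => k (c.trans inf_le_right)))
      exact (⟨x, hx.1, hx.2, fun c => n ⟨hx.1, c⟩⟩ : ∃ k ∈ S ⊓ 𝐂[z] ⊓ 𝐍(I),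
        k ∈ 𝐍(S ⊓ 𝐂[z] ⊓ 𝐍(I) ⊓ Kz z u z2) ∧ k ∉ Kz z u z2)) not_not.1
    swap
    · exact k
    refine absurd ⟨cz hk.1.2, by_contra fun n' => ?_⟩ nk
    have wI := conj_mem_of_norm hk.2 uI
    have xw : x ∈ 𝐂[k * u * k⁻¹] := by
      obtain ⟨-, e' | e'⟩ := (conj_mem_of_norm' kN ⟨⟨hx.1, xN⟩, cz hx.1.2, .inl (mul_inv_eq_iff_eq_mul.2 (mem_cent1.1 hx.2))⟩).2
      · exact mem_cent1.2 (by
          conv_rhs => rw [← e']
          group)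
      · refine absurd ?_ (h.comm_ne a hx (hI ▸ wI).1)
        calc _ = k * (k⁻¹ * x * k * u * (k⁻¹ * x * k)⁻¹ * u⁻¹) * k⁻¹ := by rw [commutatorElement_def]; group
          _ = z := by rw [e', mul_assoc u, ← mul_assoc u, ← zu, mul_inv_cancel_right, cz hk.1.2]
    refine (mx (u, k * u * k⁻¹) ⟨a, h.cjz a hk.1.1 (mem_cent1.1 hk.1.2), (mem_cent1.1 (hI ▸ wI).1.2).symm, n'⟩).not_gt
      (hI ▸ Transfer.card_lt_of_lt (lt_of_le_not_ge (fun y hy => ⟨(hI ▸ hy).1, ?_⟩) fun c => xI (c ⟨hx, xw⟩)))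
    rw [← conj_cent1]
    exact mem_conj.2 (hI ▸ conj_mem_of_norm' hk.2 hy).1.2
  rcases (key ⟨hx'.1, xN'⟩).2 with e' | e'
  · exact xI' (hI ▸ ⟨⟨hx'.1, mem_cent1.2 (mul_inv_eq_iff_eq_mul.1 e')⟩, hx'.2⟩)
  · exact h.comm_ne c hx' ⟨(hI ▸ uI).1.1, (hI ▸ uI).2⟩ (by rw [commutatorElement_def, e', ← zu, mul_inv_cancel_right])

theorem sq_one (a : P z u) (hx : x ∈ S ⊓ 𝐂[z] ⊓ 𝐂[u]) (e : x * x ∈ zpowers z) : x * x = 1 := by
  obtain ⟨D, n, H⟩ := h.sq _ _ a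
  exact (pu_zp (h.mem _ _ a).2.2.1 e).resolve_right fun k => n (k ▸ H x hx)

/-- An involution `b` that maps `u` to `u z` commutes with the neighbour `w`. -/
theorem nb1 (a : P z u) (c : P z w) (e : ⁅u, w⁆ = z) (H : ∀ x ∈ S ⊓ 𝐂[z] ⊓ 𝐂[u], ⁅x, w⁆ ∈ zpowers z) (hb : b ∈ S) (b2 : b * b = 1)
    (h1 : b * z = z * b) (h2 : b * u * b⁻¹ = u * z) : b * w = w * b := by
  obtain ⟨-, wS, z2, w2, -, zw⟩ := h.mem _ _ c
  have m : b * w ∈ S ⊓ 𝐂[z] ⊓ 𝐂[u] := ⟨⟨mul_mem hb wS, mul_mem (mem_cent1.2 h1) (mem_cent1.2 zw.symm)⟩,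
    mem_cent1.2 (mul_inv_eq_iff_eq_mul.1 (by
      calc _ = b * (w * u * w⁻¹) * b⁻¹ := by group
        _ = b * u * b⁻¹ * (b * z * b⁻¹) := by rw [h.nbc a e]; group
        _ = u := by rw [h2, h1, mul_inv_cancel_right, mul_assoc, z2, mul_one]))⟩
  refine pu_comm b2 w2 (h.sq_one a m ?_)
  rw [show b * w * (b * w) = ⁅b * w, w⁆ by rw [commutatorElement_def, mul_inv_rev, pu_inv b2, pu_inv w2, mul_assoc (b * w) w,
    ← mul_assoc w, w2, one_mul, mul_assoc _ b w]]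
  exact H _ m

theorem nb0 (a : P z u) (c : P z w) (e : ⁅u, w⁆ = z) {w' : G} (c' : P z w') (e' : ⁅u, w'⁆ = z)
    (H : ∀ x ∈ S ⊓ 𝐂[z] ⊓ 𝐂[u], ⁅x, w⁆ ∈ zpowers z) : w' = w ∨ w' = w * z :=
  h.l1 c c' (h.nb1 a c e H (h.mem _ _ c').2.1 (h.mem _ _ c').2.2.2.1 (h.mem _ _ c').2.2.2.2.2.symm (h.nbc a e')).symm

/-- L1'. With `w'` from `nb`, `x = w' w ∈ E(z, u)`, `⁅x, w'⁆ ∈ ⟨z⟩` gives `⁅w', w⁆ = x² ∈ ⟨z⟩ ⊓ D(z, u)`, so
`w`, `w'` commute and `w ∈ {w', w' z}` by `l1`. -/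
theorem nb' (a : P z u) (c : P z w) (e : ⁅u, w⁆ = z) (hx : x ∈ S ⊓ 𝐂[z] ⊓ 𝐂[u]) : ⁅x, w⁆ ∈ zpowers z := by
  obtain ⟨w', c', e', H⟩ := h.nb _ _ a
  rcases h.nb0 a c' e' c e H with rfl | rfl
  · exact H x hx
  · rw [show ⁅x, w' * z⁆ = x * w' * (z * x⁻¹) * z⁻¹ * w'⁻¹ by rw [commutatorElement_def]; group,
      ← mem_cent1.1 (inv_mem hx.1.2), ← mul_assoc, mul_inv_cancel_right]
    exact H x hx

theorem nb_eq (a : P z u) (c : P z w) (e : ⁅u, w⁆ = z) {w' : G} (c' : P z w') (e' : ⁅u, w'⁆ = z) :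
    w' = w ∨ w' = w * z := h.nb0 a c e c' e' fun _ => h.nb' a c e

/-- L2. `ρ = u v` has order `2 ^ k`, `k ≥ 2` (`l1`), `u ρ^(2 i)` is conjugate to `u` and `u ρ^(2 i + 1)` to `v`
in `S ⊓ 𝐂[z]`; `u ρ^(2^(k-1))` commutes with `u`, so `ρ^(2^(k-1)) = z`; take `c = ρ^(2^(k-2))`. -/
theorem l2 (a : P z u) (c : P z v) (h1 : v ≠ u) (h2 : v ≠ u * z) :
    ∃ r ∈ zpowers (u * v), r * r = z ∧ P z (u * r) ∧ P z (v * r) := by
  obtain ⟨-, uS, z2, u2, -, zu⟩ := h.mem _ _ a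
  obtain ⟨-, vS, -, v2, -, zv⟩ := h.mem _ _ c
  have uv : u * (u * v) = v := by rw [← mul_assoc, u2, one_mul]
  have iv : (u * v)⁻¹ * u = u * (u * v) := by rw [uv, mul_inv_rev, inv_mul_cancel_right, pu_inv v2]
  have key : ∀ i : ℕ, P z (u * (u * v) ^ i) := fun i => by
    induction i using Nat.twoStepInduction with
    | zero => simpa using a
    | one => rwa [pow_one, uv]
    | more i ih _ =>
      have := h.cjz ih (inv_mem (mul_mem uS vS)) (mem_cent1.1 (inv_mem (mul_mem (mem_cent1.2 zu.symm) (mem_cent1.2 zv.symm))))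
      rwa [← mul_assoc, iv, inv_inv, mul_assoc, mul_assoc, ← pow_succ, ← pow_succ'] at this
  obtain ⟨k, hk⟩ := h.pg ⟨u * v, mul_mem uS vS⟩
  obtain ⟨m, m1, m2⟩ := pu_four (x := u * v) (k := k) (congrArg Subtype.val hk) fun e => (h.l1 a c (pu_comm u2 v2 e)).elim h1 h2
  have k2 := key (m + m)
  rw [pow_add] at k2
  refine ⟨_, pow_mem (mem_zpowers _) m, ?_, key m, ?_⟩
  · have := pu_comm u2 m2 (h.mem _ _ k2).2.2.2.1
    exact mul_left_cancel ((h.l1 a k2 (by rw [mul_assoc u _ u, ← this])).resolve_left fun e => m1 (mul_eq_left.1 e))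
  · have := key (m + 1)
    rwa [pow_succ', ← mul_assoc, uv] at this

end Pw

/-- `c` is one of the two elements of order four attached to `z`. -/
def Cz (P : G → G → Prop) (z c : G) : Prop := ∃ u w, P z u ∧ P z w ∧ ⁅u, w⁆ = z ∧ c = u * w

namespace Pw

variable (h : Pw S P) {c c' : G}
include h

theorem cz_sq (a : Cz P z c) : c ∈ S ∧ c * c = z ∧ z * z = 1 ∧ z ≠ 1 := by
  obtain ⟨u, w, a, b, e, rfl⟩ := a
  obtain ⟨-, uS, z2, u2, z1, -⟩ := h.mem _ _ a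
  obtain ⟨-, wS, -, w2, -⟩ := h.mem _ _ b
  exact ⟨mul_mem uS wS, by rw [← e, commutatorElement_def, pu_inv u2, pu_inv w2, mul_assoc _ u w], z2, z1⟩

theorem cz_cj (a : Cz P z c) {n : G} (hn : n ∈ 𝐍(S)) : Cz P (n * z * n⁻¹) (n * c * n⁻¹) := by
  obtain ⟨u, w, a, b, e, rfl⟩ := a
  exact ⟨_, _, h.cj n hn _ _ a, h.cj n hn _ _ b, by rw [← e]; simp only [commutatorElement_def]; group, by group⟩

theorem cz_nb (a : P z u) (c : P z w) (e : ⁅u, w⁆ = z) {r : G} (k : P z (u * r)) (rr : r * r = z) :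
    r = u * w ∨ r = u * w * z := by
  have u2 := (h.mem _ _ a).2.2.2.1
  refine (h.nb_eq a c e k ?_).imp (fun e => by rw [← e, ← mul_assoc, u2, one_mul]) fun e => by
    rw [mul_assoc, ← e, ← mul_assoc, u2, one_mul]
  rw [commutatorElement_def, pu_inv u2, pu_inv (h.mem _ _ k).2.2.2.1, ← mul_assoc u, u2, one_mul, mul_assoc, ← mul_assoc u, u2,
    one_mul, rr]

/-- For `c = u w`, `c' = v w'`: if `v ∈ {u, u z}` use `nb_eq`; otherwise `r` of `l2` has `u r` a neighbour of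
`u` and `v r` one of `v`, so `r ∈ {c, c z}` and `r ∈ {c', c' z}`. -/
theorem cz_eq (a : Cz P z c) (a' : Cz P z c') : c' = c ∨ c' = c * z := by
  obtain ⟨u, w, a, b, e, rfl⟩ := a
  obtain ⟨v, w', a', b', e', rfl⟩ := a'
  have z2 := (h.mem _ _ a).2.2.1
  have zz : ∀ x, x * z * z = x := fun x => by rw [mul_assoc, z2, mul_one]
  by_cases h1 : v = u
  · exact (h.nb_eq a b e b' (h1 ▸ e')).imp (fun k => by rw [h1, k]) fun k => by rw [h1, k, mul_assoc]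
  by_cases h2 : v = u * z
  · have zw := (h.mem _ _ b).2.2.2.2.2
    refine (h.nb_eq a b e b' ?_).symm.imp (fun k => by rw [h2, k, mul_assoc u, ← mul_assoc z, zw, zz]) fun k => by
      rw [h2, k, mul_assoc, zw, mul_assoc]
    rw [← e', h2, show ⁅u * z, w'⁆ = u * (z * w') * z⁻¹ * u⁻¹ * w'⁻¹ by rw [commutatorElement_def]; group,
      (h.mem _ _ b').2.2.2.2.2, ← mul_assoc, mul_inv_cancel_right, commutatorElement_def]
  obtain ⟨r, -, rr, k, k'⟩ := h.l2 a a' h1 h2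
  rcases h.cz_nb a b e k rr with q | q <;> rcases h.cz_nb a' b' e' k' rr with q' | q'
  · exact .inl (q'.symm.trans q)
  · exact .inr (by rw [← q, q', zz])
  · exact .inr (q'.symm.trans q)
  · exact .inl (mul_right_cancel (q'.symm.trans q))

/-- Let `v = b u b`. If `v ∉ {u, u z}` then `b` inverts `u v = (u b)²` and hence `r ∈ {c, c z}` of `l2`, against
`b c = c b`. If `v = u z` take the neighbour `w` of `u`: `x = b w ∈ E(z, u)`, `x² = ⁅b, w⁆ ∈ ⟨z⟩ ⊓ D(z, u)`,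
so `b (u w) b = u w z`, again impossible. -/
theorem cent_of (a : Cz P z c) (hb : b ∈ S) (b2 : b * b = 1) (h1 : b * z = z * b) (h2 : b * c = c * b)
    (k : P z u) : b * u = u * b := by
  obtain ⟨-, -, z2, u2, z1, -⟩ := h.mem _ _ k
  have cb : ∀ {r}, Cz P z r → b * r = r * b := fun k => by
    rcases h.cz_eq a k with rfl | rfl
    · exact h2
    · rw [← mul_assoc, h2, mul_assoc, h1, mul_assoc]
  obtain ⟨w, k', e, H⟩ := h.nb _ _ k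
  by_contra n
  by_cases q : b * u * b⁻¹ = u * z
  · have e1 := cb ⟨u, w, k, k', e, rfl⟩
    rw [← mul_assoc, mul_inv_eq_iff_eq_mul.1 q, mul_assoc, h.nb1 k k' e H hb b2 h1 q, ← mul_assoc, mul_left_inj, mul_left_inj] at e1
    exact z1 (mul_eq_left.1 e1)
  obtain ⟨r, ⟨i, hi⟩, rr, k1, -⟩ := h.l2 k (h.cjz k hb h1) (fun c => n (mul_inv_eq_iff_eq_mul.1 c)) q
  have e1 : b * r = r * b := by
    rcases h.cz_nb k k' e k1 rr with rfl | rfl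
    · exact cb ⟨u, w, k, k', e, rfl⟩
    · rw [← mul_assoc, cb ⟨u, w, k, k', e, rfl⟩, mul_assoc, h1, ← mul_assoc]
  have e2 : b * r * b⁻¹ = r⁻¹ := by
    rw [← hi, ← conj_zpow, ← inv_zpow]
    congr 1
    rw [mul_inv_rev, mul_inv_rev, mul_inv_rev, inv_inv, pu_inv u2, pu_inv b2]
    simp only [mul_assoc, b2, mul_one]
  rw [e1, mul_inv_cancel_right, eq_inv_iff_mul_eq_one, rr] at e2
  exact z1 e2

end Pw

end Cfsg.Lib.FQ
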