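import Cfsg.Agent.Lib.FQ.Mod
import Cfsg.Agent.Lib.FQ.Pu1

/-!
# Two swapped sides: the field has two elements

Notation of the docstrings: `V = 𝐘 P`, `Q = 𝐐 P`, `E = J ⊓ 𝐂(V)`, `V' = a ⋆ V`, `B₀ = A ⊓ 𝐍(E)`.
-/

set_option autoImplicit false
set_option linter.unusedSectionVars false

namespace Cfsg.Lib.FQ

open Subgroup Cfsg.Lib.BG Cfsg.Lib.Transfer Cfsg.Lib.Loc Cfsg.Lib.PLocal Cfsg.Lib.CGT Cfsg.Lib.PU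
open Cfsg.Lib.CS
open scoped commutatorElement

variable {G : Type*} [Group G] [Finite G] {A J M P T : Subgroup G} {a b g t x : G}

theorem cnt_idx {B D K U : Subgroup G} (f : G → G) (hf : ∀ x ∈ D, f x ∈ U)
    (hi : ∀ x ∈ D, ∀ y ∈ D, (f x)⁻¹ * f y ∈ K → x⁻¹ * y ∈ B) : B.relIndex D ≤ K.relIndex U :=
  Nat.card_le_card_of_injective (fun q : D ⧸ B.subgroupOf D =>
    (QuotientGroup.mk ⟨f q.out, hf _ q.out.2⟩ : U ⧸ K.subgroupOf U)) fun q r e => by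
      rw [← q.out_eq, ← r.out_eq]
      exact QuotientGroup.eq.2 (hi _ q.out.2 _ r.out.2 (QuotientGroup.eq (s := K.subgroupOf U) |>.1 e))

omit [Finite G] in
theorem cnt_comm (hA : IsElementaryAbelian 2 A) (ha : a ∈ A) (hb : b ∈ A) : a * b = b * a :=
  haveI := hA.1
  setLike_mul_comm ha hb

theorem cnt_ne (H K : Subgroup G) : H.relIndex K ≠ 0 := index_ne_zero_of_finite

namespace Tw

variable (h : Tw J A T P M g a)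
include h

theorem a2 : a * a = 1 := el_sq h.el h.aA

theorem J_le : J ≤ T := h.jT ▸ thompsonSubgroupOf_le T

theorem T_norm : T ≤ 𝐍(J) := h.syl.1.trans inf_le_left

theorem inf_cent : T ⊓ 𝐂(𝐘 P) = 𝐐 P := inf_cent_Y h.pm h.cz

theorem inf_cent' : T ⊓ 𝐂(a ⋆ 𝐘 P) = a ⋆ 𝐐 P := by
  have e : a ⋆ (T ⊓ 𝐂(𝐘 P)) = a ⋆ 𝐐 P := by rw [h.inf_cent]
  rwa [conj_inf, conj_eq_of_norm h.nT, conj_centralizer] at e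

theorem bq' (hx : x ∈ A) : Bq J (x ⋆ 𝐘 P) (x * g * x⁻¹) := h.bq.conj' (h.nJ hx)

theorem tq' : Tq J (a ⋆ 𝐘 P) := (h.bq' h.aA).toTq

theorem aa (X : Subgroup G) : a ⋆ a ⋆ X = X := by rw [conj_conj, h.a2, conj_one]

theorem nc' : ¬ a ⋆ 𝐘 P ≤ 𝐂(𝐘 P) := fun k => h.nc (le_centralizer_iff.1 k)

theorem inf_c' : 𝐘 P ⊓ 𝐂(a ⋆ 𝐘 P) ≤ 𝐂(J) := h.bq.toTq.inf_le' h.tq'.le h.nc'

theorem conjE (hx : x ∈ A) : x ⋆ (J ⊓ 𝐂(𝐘 P)) = J ⊓ 𝐂(x ⋆ 𝐘 P) := by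
  rw [conj_inf, conj_eq_of_norm (h.nJ hx), conj_centralizer]

/-- `J = V' E`, so `b = w q` with `w ∈ V'`, `q ∈ T ⊓ 𝐂(V) = Q`; conjugating by `a` (which commutes with `b`)
`b = v q'` with `v ∈ V`, `q' ∈ 𝐂(V')`. Then `d = v⁻¹ q = (v⁻¹ w⁻¹ v) q'` lies in `Q ⊓ 𝐂(V')`, `b = w v d`, and
`Bq.inv_or` with `cq` gives `b ∈ 𝐂(V)` or `b ∈ 𝐂(V')`; the latter means `b = a⁻¹ b a ∈ 𝐂(V)`. -/
theorem mem_cent (hb : b ∈ A ⊓ 𝐍(J ⊓ 𝐂(𝐘 P))) (ht : t ∈ J) (e : t⁻¹ * b ∈ 𝐂(𝐘 P)) : b ∈ 𝐂(𝐘 P) := by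
  obtain ⟨w, hw, s, hs, rfl⟩ := h.bq.toTq.mul_dec h.tq' h.nc ht
  have ab : a * b * a⁻¹ = b := mul_inv_eq_iff_eq_mul.2 (cnt_comm h.el h.aA hb.1)
  have hq : w⁻¹ * b ∈ 𝐐 P := h.inf_cent ▸ mem_inf.2 ⟨T.mul_mem (T.inv_mem (h.J_le (h.tq'.le hw))) (h.le hb), by
    have := mul_mem hs.2 e
    rwa [mul_inv_rev, ← mul_assoc, ← mul_assoc, mul_inv_cancel, one_mul] at this⟩
  have hv : a * w * a⁻¹ ∈ 𝐘 P := h.aa (𝐘 P) ▸ conj_mem_conj.2 hw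
  have hd : (a * w * a⁻¹)⁻¹ * (w⁻¹ * b) ∈ 𝐐 P := mul_mem (inv_mem (oz_le _ hv)) hq
  have cQ : 𝐐 P ≤ 𝐂(𝐘 P) := le_centralizer_iff.1 (oz_le_centralizer _)
  have h' : a * (w⁻¹ * b) * a⁻¹ ∈ 𝐂(a ⋆ 𝐘 P) := conj_centralizer a (𝐘 P) ▸ conj_mem_conj.2 (cQ hq)
  refine (h.bq.inv_or h.tq' hw hv ⟨cQ hd, ?_⟩ (h.cq _ hd) (by group) (el_sq h.el hb.1)).elim id fun k => ?_
  · have := mul_mem (h.tq'.self_cent (conj_mem_of_norm' (h.tq'.nV (h.bq.le hv)) (inv_mem hw))) h'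
    rwa [show (a * w * a⁻¹)⁻¹ * w⁻¹ * (a * w * a⁻¹) * (a * (w⁻¹ * b) * a⁻¹) =
      (a * w * a⁻¹)⁻¹ * (w⁻¹ * (a * b * a⁻¹)) by group, ab] at this
  · rwa [← conj_centralizer, ← ab, conj_mem_conj] at k

/-- `Bq.side_eq` gives `x ⋆ E = a ⋆ E`. -/
theorem of_nc (hx : x ∈ A) (n : ¬ 𝐘 P ≤ 𝐂(x ⋆ 𝐘 P)) : a⁻¹ * x ∈ A ⊓ 𝐍(J ⊓ 𝐂(𝐘 P)) := ⟨A.mul_mem (A.inv_mem h.aA) hx, norm_of_conj_eq (by
    rw [← conj_conj, h.conjE hx, h.bq.side_eq (h.bq' hx).toTq h.tq' n h.nc, ← h.conjE h.aA, inv_conj_conj])⟩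

/-- `V' ≤ a ⋆ E` but `¬ V' ≤ E`. -/
theorem a_not : a ∉ 𝐍(J ⊓ 𝐂(𝐘 P)) := fun k => h.nc' fun _ hx =>
  (show _ ∈ J ⊓ 𝐂(𝐘 P) from conj_eq_of_norm k ▸ h.conjE h.aA ▸ mem_inf.2 ⟨h.tq'.le hx, h.tq'.self_cent hx⟩).2

theorem cent_of (hx : x ∈ A) (n : x ∉ 𝐍(J ⊓ 𝐂(𝐘 P))) : 𝐘 P ≤ 𝐂((x * a) ⋆ 𝐘 P) := by
  by_contra k
  have := (h.of_nc (mul_mem hx h.aA) k).2
  rw [cnt_comm h.el hx h.aA, inv_mul_cancel_left] at this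
  exact n this

omit h in
/-- A subgroup `D ≥ C` of `A` maximal subject to `a ∉ D` has index 2. -/
theorem exists_hyp {C : Subgroup G} (hA : IsElementaryAbelian 2 A) (hC : C ≤ A) (h1 : a ∈ A) (h2 : a ∉ C) :
    ∃ D, C ≤ D ∧ D ≤ A ∧ a ∉ D ∧ D.relIndex A = 2 := by
  obtain ⟨D, h3, ⟨h4, h5⟩, m⟩ := Finite.exists_le_maximal (p := fun D => D ≤ A ∧ a ∉ D) ⟨hC, h2⟩
  refine ⟨D, h3, h4, h5, relIndex_eq_two_iff.2 ⟨a, h1, fun b hb => ?_⟩⟩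
  by_cases k : b ∈ D
  · exact Or.inr ⟨k, fun q => h5 ((mul_mem_cancel_left k).1 q)⟩
  refine Or.inl ⟨?_, k⟩
  have hz : zpowers b ≤ A := zpowers_le.2 hb
  have : a ∈ D ⊔ zpowers b := by
    by_contra q
    exact k (m ⟨sup_le h4 hz, q⟩ le_sup_left (mem_sup_right (mem_zpowers b)))
  obtain ⟨d, hd, y, hy, rfl⟩ := (mem_sup_left_norm (fun y hy => centralizer_le_normalizer _
    (mem_centralizer_iff.2 fun d hd => cnt_comm hA (h4 hd) (hz hy)))).1 this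
  rcases pu_zp (el_sq hA hb) hy with rfl | rfl
  · exact (h5 (mul_mem hd (one_mem D))).elim
  · rwa [← mul_assoc, cnt_comm hA hb (h4 hd), mul_assoc, el_sq hA hb, mul_one]

section
variable {D : Subgroup G} (h1 : A ⊓ 𝐍(J ⊓ 𝐂(𝐘 P)) ≤ D) (h2 : D ≤ A) (h3 : a ∉ D)
include h1 h2 h3

/-- The conjugates `x ⋆ V`, `x ∈ D`, commute by `of_nc`. -/
theorem el_ncl : IsElementaryAbelian 2 (ncl (𝐘 P) D) := elemAb_ncl h.bq.el fun x hx => le_centralizer_iff.1 <| by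
  by_contra k
  exact h3 (inv_mem_iff.1 ((mul_mem_cancel_right hx).1 (h1 (h.of_nc (h2 hx) k))))

/-- Let `U = ncl V D`, `K = V ⊔ U ⊓ 𝐂(A)`, `v ∈ V` outside `𝐂(J)`. The map `x ↦ x v x⁻¹ K` from `D` to `U / K`
has its fibres in cosets of `B₀`: let `x v x⁻¹ = x' v x'⁻¹ w c`, `w ∈ V`, `c ∈ U ⊓ 𝐂(A)`, `x⁻¹ x' ∉ B₀`, say
`x ∉ B₀`. Then `x' v x'⁻¹` and `w` centralize `(x a) ⋆ V` (`of_nc`: otherwise `x'⁻¹ x`, or `x`, is in `B₀`),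
`c = a c a⁻¹` centralizes `a ⋆ U ≥ (x a) ⋆ V`, but `x v x⁻¹` does not, as `v ∉ 𝐂(V')` (`Tq.inf_le`). -/
theorem idx_le : (A ⊓ 𝐍(J ⊓ 𝐂(𝐘 P))).relIndex D ≤ (𝐘 P ⊔ ncl (𝐘 P) D ⊓ 𝐂(A)).relIndex (ncl (𝐘 P) D) := by
  obtain ⟨v, hv, nv⟩ := SetLike.not_le_iff_exists.1 h.bq.nc
  have key : ∀ x ∈ D, ∀ y ∈ D, x ∉ 𝐍(J ⊓ 𝐂(𝐘 P)) → y⁻¹ * x ∉ 𝐍(J ⊓ 𝐂(𝐘 P)) →
      (x * v * x⁻¹)⁻¹ * (y * v * y⁻¹) ∉ 𝐘 P ⊔ ncl (𝐘 P) D ⊓ 𝐂(A) := fun x hx y hy n m k => by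
    have k1 : 𝐘 P ⊔ ncl (𝐘 P) D ⊓ 𝐂(A) ≤ 𝐂((x * a) ⋆ 𝐘 P) := sup_le (h.cent_of (h2 hx) n) fun c hc => by
      rw [cnt_comm h.el (h2 hx) h.aA, ← conj_conj, ← conj_centralizer,
        ← mul_inv_eq_iff_eq_mul.2 (mem_centralizer_iff.1 hc.2 a h.aA), conj_mem_conj]
      exact mem_centralizer_iff.2 fun s hs => cnt_comm (h.el_ncl h1 h2 h3) (conj_le_ncl _ hx hs) hc.1
    have k2 : y * v * y⁻¹ ∈ 𝐂((x * a) ⋆ 𝐘 P) := by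
      rw [show x * a = y * (y⁻¹ * x * a) by group, ← conj_conj, ← conj_centralizer, conj_mem_conj]
      exact h.cent_of (h2 (mul_mem (inv_mem hy) hx)) m hv
    have k3 := inv_mem_iff.1 ((mul_mem_cancel_right k2).1 (k1 k))
    rw [← conj_conj, ← conj_centralizer, conj_mem_conj] at k3
    exact nv (h.inf_c' ⟨hv, k3⟩)
  refine cnt_idx (fun x => x * v * x⁻¹) (fun x hx => conj_le_ncl _ hx (conj_mem_conj.2 hv)) fun x hx y hy k =>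
    ⟨h2 (mul_mem (inv_mem hx) hy), ?_⟩
  by_contra m
  by_cases n : x ∈ 𝐍(J ⊓ 𝐂(𝐘 P))
  · exact key y hy x hx (fun q => m (Subgroup.mul_mem _ (Subgroup.inv_mem _ n) q)) m (by simpa [mul_assoc] using inv_mem k)
  · exact key x hx y hy n (fun q => m (by simpa using inv_mem q)) k

end

/-- `v = a v a⁻¹ ∈ V ⊓ V' ≤ 𝐂(J)` by `Tq.inf_le`. -/
theorem inf_cA : 𝐘 P ⊓ 𝐂(A) ≤ 𝐂(J) := fun v hv => h.inf_c' ⟨hv.1, h.tq'.self_cent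
  (mul_inv_eq_iff_eq_mul.2 (mem_centralizer_iff.1 hv.2 a h.aA) ▸ conj_mem_conj.2 hv.1)⟩

/-- D3. With `D`, `U` as above and `B₁ = B₀ ⊓ 𝐂(V)`: `B₁` centralizes `U`, `B₁ ⊔ U ≤ J ⊔ A` is elementary, so
`|B₁| |U : C_U(A)| ≤ |B₁ U| ≤ |A| = |B₁| |B₀ : B₁| |D : B₀| 2`, and
`|U : C_U(A)| = |U : K| |V : C_V(A)| ≥ |D : B₀| |V : C_V(A)|`; finally `C_V(A) ≤ 𝐂(J) ⊓ 𝐂(B₀)`. -/
theorem cnt : (𝐂(J) ⊓ 𝐂(A ⊓ 𝐍(J ⊓ 𝐂(𝐘 P)))).relIndex (𝐘 P) ≤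
    2 * 𝐂(𝐘 P).relIndex (A ⊓ 𝐍(J ⊓ 𝐂(𝐘 P))) := by
  obtain ⟨D, h1, h2, h3, h4⟩ := exists_hyp (C := A ⊓ 𝐍(J ⊓ 𝐂(𝐘 P))) h.el inf_le_left h.aA fun k => h.a_not k.2
  have i := h.idx_le h1 h2 h3
  have el := h.el_ncl h1 h2 h3
  have UJ : ncl (𝐘 P) D ≤ J := ncl_le h.bq.le (h2.trans h.nJ)
  have VU := le_ncl (𝐘 P) D
  have cA := h.inf_cA
  have BU : 𝐂(𝐘 P) ⊓ (A ⊓ 𝐍(J ⊓ 𝐂(𝐘 P))) ≤ 𝐂(ncl (𝐘 P) D) := le_centralizer_iff.2 (iSup_le fun x =>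
    le_centralizer_iff.2 fun b hb => by
      rw [← conj_centralizer, ← mul_inv_eq_iff_eq_mul.2 (cnt_comm h.el (h2 x.2) hb.2.1), conj_mem_conj]
      exact hb.1)
  have BA : A ⊓ 𝐍(J ⊓ 𝐂(𝐘 P)) ≤ A := inf_le_left
  generalize A ⊓ 𝐍(J ⊓ 𝐂(𝐘 P)) = B at *
  generalize ncl (𝐘 P) D = U at *
  generalize 𝐘 P = V at i el UJ VU cA BU ⊢
  have B1 : 𝐂(V) ⊓ B ≤ A := inf_le_right.trans BA
  have m := h.max _ (sup_le (B1.trans le_sup_right) (UJ.trans le_sup_left))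
    (PGroup.elemAb_sup (PGroup.elemAb_of_le h.el B1) el BU)
  rw [← BG.card_mul_relIndex (le_sup_left (b := U)), ← BG.card_mul_relIndex B1,
    ← relIndex_mul_relIndex _ D _ (inf_le_right.trans h1) h2, ← relIndex_mul_relIndex _ B _ inf_le_right h1, h4,
    inf_relIndex_right] at m
  have m1 := (relIndex_le_of_le_right le_sup_right (cnt_ne _ _)).trans (Nat.le_of_mul_le_mul_left m Nat.card_pos)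
  have m2 := (relIndex_le_of_le_left (K := 𝐂(A)) (fun b hb => mem_centralizer_iff.2 fun c hc =>
    cnt_comm h.el hc (B1 hb)) (cnt_ne _ _)).trans m1
  rw [← inf_relIndex_left, ← relIndex_mul_relIndex _ (V ⊔ U ⊓ 𝐂(A)) _ le_sup_right (sup_le VU inf_le_left)] at m2
  have m3 : (𝐂(J) ⊓ 𝐂(B)).relIndex V ≤ (U ⊓ 𝐂(A)).relIndex (V ⊔ U ⊓ 𝐂(A)) := by
    refine le_trans ?_ (relIndex_le_of_le_right le_sup_left (cnt_ne _ _))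
    rw [← inf_relIndex_right (U ⊓ 𝐂(A))]
    exact relIndex_le_of_le_left (fun c hc => ⟨cA ⟨hc.2, hc.1.2⟩, centralizer_le BA hc.1.2⟩) (cnt_ne _ _)
  refine Nat.le_of_mul_le_mul_right (((Nat.mul_le_mul m3 i).trans m2).trans_eq (by ring)) (Nat.pos_of_ne_zero (cnt_ne B D))

theorem two : 𝐂(𝐘 P).relIndex J = 2 ∧ T ≤ J ⊔ 𝐐 P :=
  FQ.two h.pm h.cz h.J_le h.T_norm h.bq.toTq h.le (PGroup.elemAb_of_le h.el inf_le_left)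
    (fun _ hb _ ht => h.mem_cent hb ht) h.cnt

end Tw

end Cfsg.Lib.FQ
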