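import Cfsg.Agent.Lib.FQ.Defs

/-!
# A rank one group over the Baumann subgroup
-/

set_option autoImplicit false
set_option linter.unusedSectionVars false

namespace Cfsg.Lib.FQ

open Subgroup Cfsg.Lib.BG Cfsg.Lib.Transfer Cfsg.Lib.Loc Cfsg.Lib.PLocal Cfsg.Lib.CGT Cfsg.Lib.PU
open Cfsg.Lib.CS
open scoped commutatorElement

variable {G : Type*} [Group G] [Finite G] {M T : Subgroup G}

/-- The standing situation of `CS/Defs` with fewer normalizers. -/
structure Si (p : ℕ) (T M : Subgroup G) : Prop where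
  chp : IsChP p (⊤ : Subgroup G)
  syl : SylIn p T ⊤
  cz : 𝐂(omegaOneCenter p T) ≤ M
  norm_le : 𝐍(baum p T) ≤ M

section
variable {p : ℕ} [hp : Fact p.Prime] {Q S : Subgroup G}

namespace Si

variable (h : Si p T M)
include h

theorem core_le : pCoreOf p ⊤ ≤ T := core_le_of_not_dvd h.syl.2.2

theorem le_of_ge (hQ : IsPGroup p Q) (h1 : baum p T ≤ Q) : Q ≤ M :=
  (le_norm_baum h.syl hQ (le_norm_of_le h1)).trans h.norm_le

theorem cent_oz_le (hS : IsPGroup p S) (h1 : baum p T ⊔ pCoreOf p ⊤ ≤ S) : 𝐂(omegaOneCenter p S) ≤ M := by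
  obtain ⟨T', h2, hT'⟩ := exists_sylIn_ge hS le_top
  have e := baum_eq_of_le h.syl hT' ((le_sup_left.trans h1).trans h2)
  refine (cent_anti (le_oz (oz_elemAb T') ((h.chp.le_core le_top (cent_mono (oz_le_centralizer _) le_rfl
    (core_le_of_not_dvd hT'.2.2))).trans (le_sup_right.trans h1))
      (cent_mono (oz_le_centralizer _) le_rfl h2))).trans ?_
  obtain ⟨g, -, rfl⟩ := h.syl.exists_conj hT'
  rw [← conj_oz, ← conj_centralizer]
  exact conj_le_of_mem h.cz (h.norm_le (norm_of_conj_eq ((conj_baum g T).trans e)))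

end Si

open Cfsg.Lib.Root
open scoped MatrixGroups Matrix

theorem Si.good_of_min (h : Si p T M) {Λ : Type*} [Group Λ] [Finite Λ] {F : Type*} [Field F]
    [Finite F] [CharP F p] {ι : Λ →* G} (hι : Function.Injective ι) {π : Λ →* SL(2, F)}
    (hπ : Function.Surjective π) {S : Subgroup Λ} (hS : SylIn p S ⊤)
    (h1 : baum p T ⊔ pCoreOf p ⊤ ≤ S.map ι)
    (h2 : upperUnipotentSL2 F ≤ ((baum p T).comap ι).map π)
    (h3 : ∀ K, S ≤ K → K.map π = ⊤ → K = ⊤) (h4 : M.comap ι ≠ ⊤) :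
    ∃ L, Good p (baum p T) M L ∧ pCoreOf p ⊤ ≤ 𝐍(L) := by
  have a1 : (baum p S).map ι = baum p T := by
    rw [map_baum hι, (baum_eq_of_ge h.syl (hS.2.1.map ι) (le_sup_left.trans h1)).2.2]
  have a2 : (baum p T).comap ι = baum p S := by rw [← a1, comap_map_eq_self_of_injective hι]
  rw [a2] at h2
  have a3 : S.map π = upperUnipotentSL2 F :=
    eq_upper (hS.2.1.map π) (h2.trans (map_mono inf_le_left))
  have a4 : ∀ K, S ≤ K → K ≠ ⊤ → K ≤ 𝐍(upperUnipotentSL2 F).comap π := fun K k1 k2 =>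
    map_le_iff_le_comap.1 (by_contra fun e => k2 (h3 K k1
      (eq_top_of_not_le (a3.ge.trans (map_mono k1)) e)))
  have a5 : 𝐍(upperUnipotentSL2 F).comap π ≠ ⊤ := fun e => norm_upper_ne (by
    rw [← map_comap_eq_self_of_surjective hπ 𝐍(upperUnipotentSL2 F), e, map_top_of_surjective _ hπ])
  have a6 : S ≤ 𝐍(upperUnipotentSL2 F).comap π := map_le_iff_le_comap.1 (a3.le.trans (le_norm _))
  obtain ⟨S, rfl⟩ := sylIn_top_iff.1 hS
  obtain ⟨M₁, k1, -, k2, -⟩ := exists_hyp_of_psl S (F := F) (isChP_top.1 ((isChP_map_iff hι).1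
    (h.chp.of_core_le ((le_sup_right.trans h1).trans (map_mono le_top)) le_top)))
    ⟨_, ⟨⟨a5, fun K hK => by_contra fun e => hK.not_ge (a4 K (a6.trans hK.le) e)⟩, a6⟩,
      fun K hK => ((hK.1.le_iff.1 (a4 K hK.2 hK.1.1)).resolve_left a5).symm⟩
    ((QuotientGroup.mk' _).comp π) ((QuotientGroup.mk'_surjective _).comp hπ)
  have := (exists_good_of_hyp (M := M.comap ι) k1 (fun e => h4 (eq_top_iff.2 fun x _ =>
    h.cent_oz_le (hS.2.1.map ι) h1 ?_)) (fun x hx => ?_) (map_le_iff_le_comap.1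
      (h.le_of_ge (hS.2.1.map ι) (le_sup_left.trans h1))) h4).map hι
  · exact ⟨_, a1 ▸ this, (le_sup_right.trans h1).trans (map_norm ι le_normalizer_of_normal)⟩
  · rw [← map_oz hι]
    exact (mem_cent_map hι).2 (mem_cent.2 fun y hy => (mem_center_iff.1 (e hy) x).symm)
  · obtain ⟨b, hb, e⟩ := (a3.le.trans h2) (mem_map_of_mem π hx)
    rw [← mul_inv_cancel_left b x]
    refine mul_mem (mem_sup_left hb) (mem_sup_right (k2.le (mem_inf.2 ⟨?_, S.1.mul_mem (S.1.inv_mem hb.1) hx⟩)))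
    rw [MonoidHom.mem_ker, MonoidHom.comp_apply, map_mul, map_inv, e, inv_mul_cancel, map_one]

theorem Si.good_of_hom (h : Si p T M) {Λ : Type*} [Group Λ] [Finite Λ] {F : Type*} [Field F]
    [Finite F] [CharP F p] {ι : Λ →* G} (hι : Function.Injective ι) {π : Λ →* SL(2, F)}
    (hπ : Function.Surjective π) (h1 : baum p T ⊔ pCoreOf p ⊤ ≤ ι.range)
    (h2 : upperUnipotentSL2 F ≤ ((baum p T).comap ι).map π) {s : SL(2, F)}
    (h4 : ∀ g, π g = s → ι g ∉ M) : ∃ L, Good p (baum p T) M L ∧ pCoreOf p ⊤ ≤ 𝐍(L) := by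
  obtain ⟨S, s1, hS⟩ := exists_sylIn_ge ((h.syl.2.1.to_le
    (sup_le inf_le_left h.core_le : baum p T ⊔ pCoreOf p ⊤ ≤ T)).comap_of_injective ι hι) le_top
  obtain ⟨L, ⟨l1, l2⟩, l3⟩ := exists_minimal_of_wellFoundedLT
    (fun K : Subgroup Λ => S ≤ K ∧ K.map π = ⊤) ⟨⊤, le_top, map_top_of_surjective _ hπ⟩
  have e : (S.subgroupOf L).map L.subtype = S := map_subgroupOf_eq_of_le l1
  have hπ' : Function.Surjective (π.comp L.subtype) := fun y =>
    let ⟨x, hx, e⟩ := l2.ge (mem_top y); ⟨⟨x, hx⟩, e⟩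
  refine h.good_of_min (hι.comp L.subtype_injective) (ι := ι.comp L.subtype) hπ'
    (S := S.subgroupOf L) ((SylIn.map_iff L.subtype_injective).1 (by
      rw [e, ← MonoidHom.range_eq_map, range_subtype]; exact hS.of_le l1 le_top)) ?_ ?_
    (fun K k1 k2 => ?_) fun e' => ?_
  · rw [← map_map, e, ← map_comap_eq_self h1]; exact map_mono s1
  · refine h2.trans ?_
    rintro _ ⟨x, hx, rfl⟩
    exact ⟨⟨x, l1 (s1 (mem_sup_left hx))⟩, hx, rfl⟩
  · refine map_injective L.subtype_injective (le_antisymm (map_mono le_top) ?_)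
    rw [← MonoidHom.range_eq_map, range_subtype]
    exact l3 ⟨e ▸ map_mono k1, by rw [map_map, k2]⟩ (map_subtype_le K)
  · obtain ⟨g, hg⟩ := hπ' s
    exact h4 g hg (e'.ge (mem_top g))

theorem Si.good_of_pMin (h : Si p T M) (hm : PMin p T M ⊤) : ∃ L, Good p (baum p T) M L ∧ pCoreOf p ⊤ ≤ 𝐍(L) := by
  set V := omegaOneCenter p (pCoreOf p (⊤ : Subgroup G))
  have hV : IsElementaryAbelian p V := oz_elemAb _
  have v1 : V ≤ T := (oz_le _).trans h.core_le
  have v2 : pCoreOf p ⊤ ≤ 𝐂(V) := cent_symm (oz_le_centralizer _)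
  have v3 : 𝐂(V ⊓ 𝐂(T)) ≤ M := (cent_anti (le_inf (h.chp.oz_le_oz_core le_top h.core_le)
    (oz_le_centralizer _))).trans h.cz
  have v4 : (⊤ : Subgroup G) ≤ 𝐍(V) := norm_Y p ⊤
  obtain ⟨W, _, _, d, hd⟩ := exists_dict' hV.1 (MonoidHom.id G) Function.injective_id
    (le_top.trans v4)
  have := d.finite
  have hy := d.hyp hd hm hV v2 v3
  obtain ⟨A, hA, h4⟩ : ∃ A ∈ maxIn p T, ¬ A ≤ 𝐂(V) := by
    by_contra! e
    have e1 : baum p T ≤ pCoreOf p ⊤ := (le_inf (inf_le_right.trans (cent_anti (le_zj hV v1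
      (cent_symm (thompsonSubgroupOf_le_iff.2 e))))) inf_le_left).trans (hm.inf_le_core
        ((cent_anti inf_le_left).trans v3) (norm_cent v4))
    have e2 := (baum_eq_of_ge h.syl (core_pgroup p ⊤) e1).2.2
    exact hm.lt.not_ge (((le_normalizer_core p ⊤).trans (normalizer_le_baum _)).trans
      (e2 ▸ h.norm_le))
  obtain ⟨A₀, a1, a2, -⟩ := exists_minOff (fun e => h4 (d.ker_eq hd ▸ (Subgroup.map_eq_bot_iff _).1 e))
    (elab_map hA.2.1 _) (d.off_of_mem_maxIn hd hV hA v1)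
  have a3 : A₀ ≤ (baum p T).map (toImg W) :=
    a1.trans (map_mono ((le_thompsonSubgroupOf hA).trans (thompson_le_baum T)))
  have a4 : (baum p T).map (toImg W) ≤ T.map (toImg W) := map_mono inf_le_left
  have a5 : cm W A₀ ≤ cv W ((baum p T).map (toImg W)) := by
    rw [← d.sub_le_sub, d.sub_cv' hd]
    refine le_inf d.sub_le ((le_zj (elab_of_le hV d.sub_le) (d.sub_le.trans v1) (cent_symm
      (thompsonSubgroupOf_le_iff.2 fun X hX => cent_symm ?_))).trans (cent_symm inf_le_right))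
    exact (d.sub_le_sub.2 (qd_off hy (hy.tg a2) (a3.trans a4) (map_mono hX.1) (elab_map hX.2.1 _)
      (d.off_of_mem_maxIn hd hV hX v1)).cm_le).trans ((d.sub_cv' hd X).le.trans inf_le_right)
  obtain ⟨F, _, _, _, ψ, p1, p2, p3, p4, p5⟩ := exists_lin hy a2 a3 a4 a5
  let Λ : Subgroup (G × SL(2, F)) :=
    { carrier := {x | Act ψ x.1 x.2}
      one_mem' := fun v => by simp
      mul_mem' := fun {x y} hx hy v => by
        rw [Prod.fst_mul, mul_smul, hx, hy, Matrix.mulVec_mulVec]; rfl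
      inv_mem' := fun {x} hx v => by
        have := hx (x.1⁻¹ • v)
        rw [smul_inv_smul] at this
        rw [this, Matrix.mulVec_mulVec, Prod.snd_inv, ← Matrix.SpecialLinearGroup.coe_mul,
          inv_mul_cancel]
        simp }
  let ι := (MonoidHom.fst _ _).comp Λ.subtype
  let π := (MonoidHom.snd _ _).comp Λ.subtype
  have q1 : ∀ {g : G} {s}, Act ψ (toImg W g) s → (g, s) ∈ Λ := fun e => e
  have q2 : upperUnipotentSL2 F ≤ ((baum p T).comap ι).map π := fun s hs => by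
    obtain ⟨t, rfl⟩ := mem_upper_iff.1 hs
    obtain ⟨_, ⟨b, hb, rfl⟩, e⟩ := p3 t
    exact ⟨⟨_, q1 e⟩, hb, rfl⟩
  refine h.good_of_hom (ι := ι) ((injective_iff_map_eq_one _).2 fun x hx => Subtype.ext
    (Prod.ext hx (sl_faith _ fun y => ?_))) (π := π) (MonoidHom.range_eq_top.1 (top_le_iff.1
      (upper_sup_lower.ge.trans (sup_le (q2.trans (map_le_range _ _)) fun s hs => ?_))))
    (sup_le (fun b hb => ?_) fun r hr => ⟨⟨(r, 1), fun v => ?_⟩, rfl⟩) q2 (s := wS 1)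
    fun g e hg => p5 _ (mem_map_of_mem _ hg) (e ▸ g.2)
  · obtain ⟨v, rfl⟩ := p1 y
    have := x.2 v
    rw [show x.1.1 = 1 from hx, one_smul] at this
    exact this.symm
  · obtain ⟨t, rfl⟩ := mem_lower_iff.1 hs
    obtain ⟨a, e⟩ := p4 t
    obtain ⟨a, rfl⟩ := toImg_surj a
    exact ⟨⟨_, q1 e⟩, rfl⟩
  · obtain ⟨t, e⟩ := p2 _ (mem_map_of_mem _ hb)
    exact ⟨⟨_, q1 e⟩, rfl⟩
  · rw [d.mem_cent.1 (hd ▸ v2 hr)]; simp

end

/-- Copy `Sit.good_of_min`, `good_of_hom`, `good_of_pMin` of `CS/EX` for the weaker structure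
(`chp`, `syl`, `cz`, `𝐍(𝐁 T) ≤ M` in place of `ch`; copy `Sit.core_le`, `le`, `le_of_ge`, `exists_ge`,
`cent_oz_le` of `CS/Defs`; note `𝐍(𝐁 T) ≤ 𝐍(𝐉 T)`) and add the last clause: in `good_of_min` the group
is the image of a normal subgroup of `Λ` and `𝐐 ⊤ ≤ S.map ι ≤ ι.range`. -/
theorem ex0 (hc : IsChP 2 (⊤ : Subgroup G)) (hm : PMin 2 T M ⊤) (cz : 𝐂(𝛀 T) ≤ M) (nb : 𝐍(𝐁 T) ≤ M) :
    ∃ L, Good 2 (𝐁 T) M L ∧ 𝐐 ⊤ ≤ 𝐍(L) := by
  exact Si.good_of_pMin ⟨hc, ⟨le_top, hm.pgroup, hm.syl⟩, cz, nb⟩ hm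

end Cfsg.Lib.FQ
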