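import Cfsg.Agent.Lib.FQ.Pair

/-!
# Offenders and a normal group of transvection type
-/

set_option autoImplicit false
set_option linter.unusedSectionVars false

namespace Cfsg.Lib.FQ

open Subgroup Cfsg.Lib.BG Cfsg.Lib.Transfer Cfsg.Lib.Loc Cfsg.Lib.PLocal Cfsg.Lib.CGT Cfsg.Lib.PU
open Cfsg.Lib.CS
open scoped commutatorElement

section module
variable {H W : Type*} [Group H] [AddCommGroup W] [DistribMulAction H W] [Finite H] [Finite W]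
  {A J M T X : Subgroup H}

theorem minOff_of_tg (h : CGT.Hyp W 2 T M) (hJ : TG W J) : MinOff W 2 J := by
  refine ⟨hJ.ne, h.ctx.elemAb hJ.quad, hJ.idx.le, fun B hB h0 => ?_⟩
  obtain ⟨b, hb, h1⟩ := exists_ne_one h0
  rw [le_antisymm (fun v hv => hJ.ti b (hB.le hb) h1 v (hv b hb)) (cv_anti hB.le)]
  exact Nat.mul_lt_mul_of_pos_right (card_lt_of_lt hB) Nat.card_pos

theorem inf_cent_bot (h : CGT.Hyp W 2 T M) (h1 : T ≤ 𝐍(X)) (h2 : ¬ X ≤ M) : T ⊓ 𝐂(X) = ⊥ :=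
  by_contra fun e => h2 ((norm_of_cent (cent_symm inf_le_right)).trans
    (h.norm_le inf_le_left e (norm_inf (le_norm T) (norm_cent h1))))

variable (h : CGT.Hyp W 2 T M) (hJ : TG W J) (h1 : J ≤ T) (h2 : T ≤ 𝐍(J))
include h hJ h1 h2

/-- `h.typ` gives `BigT`: `n.up = J`, `L = n.σ.range` is normalized by `T` (`Pts.norm_le`), `L ⊔ T = ⊤`
(`h.max`). If `A ≠ J` then `A ≤ 𝐂(L)` (`Ctx.cent_of_pgroup`, `SLT.le_cent`), and `T ⊓ 𝐂(L)` is a normal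
2-subgroup, so `⊥` (`h.core`). -/
theorem eq_of_minOff (h3 : Nat.card J ≠ 2) (hA : MinOff W 2 A) (h4 : A ≤ T) : A = J := by
  by_contra ne
  have P := h.pts hJ
  obtain ⟨F, _, _, n, l, hl, hl1, rfl, hL⟩ := (h.typ (minOff_of_tg h hJ) h1).resolve_right fun e => h3 e.2.1
  have e := inf_cent_bot h (h2.trans (P.norm_le n (self_mem_cl _) hL hl hl1)) fun e => hL 1 ((conj_one M).symm ▸ e)
  exact hA.ne (eq_bot_mono e (le_inf h4 (n.le_cent h.ctx (h.tg hA)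
    (h.ctx.cent_of_pgroup h.syl.2.1 (h.tg hA) hJ h4 h1) ne hl hl1)))

/-- M1. Induction with `exists_minOff` and `Hyp.split` as in `CS.qd_off`. -/
theorem off_le (h3 : Nat.card J ≠ 2) (h4 : X ≤ T) (hX : IsElementaryAbelian 2 X)
    (h5 : (cv W X).index ≤ Nat.card X) : X ≤ J := by
  induction X using WellFoundedLT.induction with
  | _ X ih =>
  rcases eq_or_ne X ⊥ with rfl | h0
  · exact bot_le
  obtain ⟨B, h6, hB, -⟩ := exists_minOff h0 hX h5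
  obtain ⟨Y, g, d⟩ := h.split hB hX h6 h4
  exact d.sup.trans (sup_le (eq_of_minOff h hJ h1 h2 h3 hB (h6.trans h4)).le
    (ih Y (d.le.lt_of_ne fun e => d.nle (e ▸ h6)) (d.le.trans h4) (elab_of_le hX d.le)
      (d.off (h.tg hB) h6 hX.1 h5)))

/-- M2. `h.typ` gives `SmallT` (`BigT` needs `|F| > 2`): `J = ⟨s⟩`, `s = t a a.rev`, `T ≤ 𝐂[s]`. With `o` from
`Pts.exists_center` and `r = t a o`, `Pts.conj_star` shows that `τ ∈ T` maps `r` to `t a o` or `t a.rev o = s r s`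
(the image does not commute with `s`; see the end of `CS.exists_lin`). So `T` normalizes
`K = ⟨s, r⟩ ≰ M`, `K ⊔ T = ⊤`, `T ⊓ 𝐂(K) = ⊥`, and `τ` or `s τ` lies in it. -/
theorem le_of_two (h3 : Nat.card J = 2) : T ≤ J := by
  have P := h.pts hJ
  rcases h.typ (minOff_of_tg h hJ) h1 with ⟨F, _, _, n, l, hl, hl1, rfl, hL⟩ |
    ⟨-, -, n, t, a, ht, hm, hT, hL, ha, rfl⟩
  · rw [n.card_up, Nat.card_eq_two_iff' 0] at h3
    exact absurd (h3.unique hl one_ne_zero) hl1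
  have h4 : ∀ A ∈ cl (zpowers (t a a.rev)), Nat.card A = 2 := fun _ ⟨g, e⟩ =>
    e ▸ (card_conj _ _).trans h3
  obtain ⟨o, ho, h5⟩ := P.exists_center ht h4 hm hT hL
  have e1 : a ≠ o := by grind
  have e2 : a.rev ≠ o := by grind
  have ts := ht.tv ha
  have c1 : ∀ x ∈ T, x * t a a.rev * x⁻¹ = t a a.rev := fun x hx =>
    (ts.eq_of_mem (conj_mem_of_norm (h2 hx) (mem_zpowers _))).resolve_left fun e => ts.ne_one (by
      simpa [mul_inv_eq_one] using e)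
  have c2 : ∀ x ∈ T, x * t a o * x⁻¹ = t a o ∨ x * t a o * x⁻¹ = t a a.rev * t a o * t a a.rev := by
    intro x hx
    have h6 : t a a.rev * (x * t a o * x⁻¹) ≠ x * t a o * x⁻¹ * t a a.rev := fun e => by
      refine ht.not_comm h.ctx ha e1 e2 ((MulAut.conj x).injective ?_)
      rw [map_mul, map_mul, show MulAut.conj x (t a a.rev) = t a a.rev from c1 x hx]
      exact e
    obtain ⟨y, hy, e⟩ := (P.conj_star ht h4 hm hT ho h5 hx e1).resolve_left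
      fun e => h6 (mem_cent.1 e _ (mem_gen _ _))
    rw [← e] at h6 ⊢
    rw [ht.conj_eq h.ctx, Equiv.swap_apply_left, Equiv.swap_apply_of_ne_of_ne e1.symm e2.symm]
    by_contra! h7
    rw [Ne, ht.comm_iff h.ctx ha hy, dlt_ne e1, dlt_ne e2, dlt_ne (by grind), dlt_ne (by grind)] at h6
    exact h6 rfl
  have ss := ts.mul_self
  have nM := h5 a e1
  generalize t a a.rev = s at *
  generalize t a o = r at *
  have m1 : s ∈ zpowers s ⊔ zpowers r := mem_sup_left (mem_zpowers s)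
  have m2 : r ∈ zpowers s ⊔ zpowers r := mem_sup_right (mem_zpowers r)
  have e := inf_cent_bot (X := zpowers s ⊔ zpowers r) h (fun x hx => mem_normalizer_of_conj_le (by
    rw [conj_sup, conj_zpowers, conj_zpowers, c1 x hx]
    refine sup_le le_sup_left (zpowers_le.2 ?_)
    rcases c2 x hx with e | e <;> rw [e]
    · exact m2
    · exact mul_mem (mul_mem m1 m2) m1)) fun e => nM (e m2)
  have k : ∀ x ∈ T, x * r * x⁻¹ = r → x = 1 := fun x hx e' => mem_bot.1 (e.le ⟨hx, by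
    rw [cent_sup, cent_zpowers, cent_zpowers]
    exact ⟨mem_cent1.2 (mul_inv_eq_iff_eq_mul.1 (c1 x hx)), mem_cent1.2 (mul_inv_eq_iff_eq_mul.1 e')⟩⟩)
  intro x hx
  rcases c2 x hx with e' | e'
  · rw [k x hx e']; exact one_mem _
  · have := k (s * x) (mul_mem (h1 (mem_zpowers s)) hx) (by
      calc s * x * r * (s * x)⁻¹ = s * (x * r * x⁻¹) * s⁻¹ := by group
        _ = s * s * r := by rw [e']; group
        _ = r := by rw [ss, one_mul])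
    rw [eq_inv_of_mul_eq_one_right this]
    exact inv_mem (mem_zpowers s)

/-- `X = B ⊔ (J ⊓ 𝐂(B))` is elementary (`Ctx.elemAb`), `J ⊓ 𝐂(B) ≠ ⊥`, so `|X| ≥ 2 |B|`; by M1 `B ≤ J`, so
`B = ⊥` and `|J| = (cv W J).index ≤ 2`. -/
theorem card_eq_two {B : Subgroup H} (hB : B ≤ T) (el : IsElementaryAbelian 2 B) (i : B ⊓ J = ⊥)
    (c : (cv W J ⊓ cv W B).index ≤ 2 * Nat.card B) : Nat.card J = 2 := by
  by_contra h3
  have eJ := h.ctx.elemAb hJ.quad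
  have n0 : J ⊓ 𝐂(B) ≠ ⊥ := PGroup.inf_centralizer_ne_bot (elab_pgroup eJ) (elab_pgroup el) (hB.trans h2) hJ.ne
  have k := Core.card_sup_mul_card_inf (norm_of_cent (cent_symm (inf_le_right : J ⊓ 𝐂(B) ≤ _)))
  rw [← inf_assoc, i, bot_inf_eq, card_bot, mul_one] at k
  have two : ∀ D : Subgroup H, D ≠ ⊥ → 2 ≤ Nat.card D := fun D hD => (one_lt_card_iff_ne_bot D).2 hD
  have l := off_le h hJ h1 h2 h3 (sup_le hB (inf_le_left.trans h1))
    (elab_sup el (elab_of_le eJ inf_le_left) (cent_symm inf_le_right)) (by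
      refine (AddSubgroup.index_antitone ?_).trans (c.trans ?_)
      · rw [cv_sup]; exact le_inf inf_le_right (inf_le_left.trans (cv_anti inf_le_left))
      · rw [k, mul_comm]; exact Nat.mul_le_mul_left _ (two _ n0))
  have b : B = ⊥ := eq_bot_mono i (le_inf le_rfl (le_sup_left.trans l))
  rw [b, cv_bot, inf_top_eq, hJ.idx, card_bot] at c
  exact h3 (c.antisymm (two _ hJ.ne))

end module

variable {G : Type*} [Group G] [Finite G] {B J M P T : Subgroup G}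

theorem inf_cent_Y (pm : PMin 2 T M P) (cz : P ⊓ 𝐂(𝐘 P ⊓ 𝐂(T)) ≤ M) : T ⊓ 𝐂(𝐘 P) = 𝐐 P := by
  refine le_antisymm (le_trans ?_ (pm.inf_le_core ((inf_le_inf_left P (cent_anti inf_le_left)).trans cz)
    (norm_inf (le_norm P) (norm_cent (norm_Y 2 P))))) (le_inf (core_le_of_not_dvd pm.syl) (le_centralizer_oz _))
  exact le_inf (inf_le_inf_right _ pm.leP) inf_le_left

theorem two_gen {V : Subgroup G} (pm : PMin 2 T M ⊤) (nV : ⊤ ≤ 𝐍(V)) (hQ : 𝐐 ⊤ ≤ 𝐂(V))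
    (cz : 𝐂(V ⊓ 𝐂(T)) ≤ M) (h1 : J ≤ T) (h2 : T ≤ 𝐍(J)) (h : Tq J V)
    (hB : B ≤ T) (el : IsElementaryAbelian 2 B) (i : ∀ b ∈ B, ∀ t ∈ J, t⁻¹ * b ∈ 𝐂(V) → b ∈ 𝐂(V))
    (c : (𝐂(J) ⊓ 𝐂(B)).relIndex V ≤ 2 * 𝐂(V).relIndex B) :
    𝐂(V).relIndex J = 2 ∧ T ≤ J ⊔ 𝐂(V) := by
  have hV := h.el
  obtain ⟨W, _, _, d, hd⟩ := exists_dict' hV.1 (MonoidHom.id G) Function.injective_id
    (le_top.trans nV)
  have := d.finite
  have hy := d.hyp hd pm hV hQ cz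
  have k1 : ∀ X : Subgroup G, Nat.card (X.map (toImg W)) = 𝐂(V).relIndex X := fun X => by
    rw [← relIndex_ker, d.ker_eq hd]
  have k2 : ∀ X : Subgroup G, (cv W (X.map (toImg W))).index = 𝐂(X).relIndex V := fun X => by
    rw [← AddSubgroup.relIndex_top_right, ← d.relIndex_sub, d.sub_top, d.sub_cv' hd, inf_relIndex_left]
  have k3 : ∀ (X : Subgroup G) (w : W), d.k w ∈ 𝐂(X) → w ∈ cv W (X.map (toImg W)) := fun X w e =>
    d.k_mem_sub.1 ((d.sub_cv' hd X).ge ⟨d.k_mem w, e⟩)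
  have k4 : ∀ x : G, toImg W x = 1 ↔ x ∈ 𝐂(V) := fun x => by rw [← d.ker_eq hd]; rfl
  have tg : TG W (J.map (toImg W)) := by
    refine ⟨fun e => h.nc (cent_symm (d.ker_eq hd ▸ (Subgroup.map_eq_bot_iff _).1 e)), ?_, ?_,
      by rw [k1, k2, h.idx]⟩
    · rintro _ ⟨t, ht, rfl⟩ v
      refine k3 _ _ (h.quad ?_)
      rw [toImg_smul, d.k_comm, hd, commutator_comm]
      exact commutator_mem_commutator ht (d.k_mem v)
    · rintro _ ⟨t, ht, rfl⟩ n v e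
      have := d.smul_eq_iff.1 ((toImg_smul t v).symm.trans e)
      rw [hd] at this
      exact k3 _ _ ((h.ti _ (d.k_mem v) t ht this).resolve_left fun e => n ((k4 t).2 e))
  have e := card_eq_two hy tg (map_mono h1) (map_norm _ h2) (map_mono hB) (elab_map el _) (eq_bot_iff.2 (by
    rintro _ ⟨⟨b, hb, rfl⟩, t, ht, e⟩
    exact (k4 b).2 (i b hb t ht ((k4 _).1 (by rw [map_mul, map_inv, e, inv_mul_cancel]))))) (by
      rwa [← cv_sup, ← Subgroup.map_sup, k1, k2, cent_sup])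
  exact ⟨(k1 J).symm.trans e, d.ker_eq hd ▸ map_le_map_iff.1 (le_of_two hy tg (map_mono h1) (map_norm _ h2) e)⟩

theorem two_map {G' : Type*} [Group G'] {f : G →* G'} (hf : Function.Injective f) {V : Subgroup G}
    (pm : PMin 2 T M ⊤) (nV : ⊤ ≤ 𝐍(V)) (hQ : 𝐐 ⊤ ≤ 𝐂(V))
    (cz : ∀ x, f x ∈ 𝐂(V.map f ⊓ 𝐂(T.map f)) → x ∈ M) (h1 : J.map f ≤ T.map f) (h2 : T.map f ≤ 𝐍(J.map f))
    (h : Tq (J.map f) (V.map f)) (hB : B.map f ≤ T.map f) (el : IsElementaryAbelian 2 (B.map f))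
    (i : ∀ b ∈ B.map f, ∀ t ∈ J.map f, t⁻¹ * b ∈ 𝐂(V.map f) → b ∈ 𝐂(V.map f))
    (c : (𝐂(J.map f) ⊓ 𝐂(B.map f)).relIndex (V.map f) ≤ 2 * 𝐂(V.map f).relIndex (B.map f)) :
    𝐂(V.map f).relIndex (J.map f) = 2 ∧ T.map f ≤ J.map f ⊔ 𝐂(V.map f) := by
  rw [← cent_sup, ← Subgroup.map_sup, idx_cent_map hf, idx_cent_map hf, cent_sup] at c
  rw [le_normalizer_iff_commutator_le_left, ← map_commutator, map_le_map_iff_of_injective hf,
    ← le_normalizer_iff_commutator_le_left] at h2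
  have z : V.map f ⊓ 𝐂(T.map f) ≤ (V ⊓ 𝐂(T)).map f := by
    rintro _ ⟨⟨y, hy, rfl⟩, e⟩
    exact mem_map_of_mem _ ⟨hy, (mem_cent_map hf).1 e⟩
  obtain ⟨a, b⟩ := two_gen pm nV hQ (fun x hx => cz x (cent_anti z ((mem_cent_map hf).2 hx)))
    ((map_le_map_iff_of_injective hf).1 h1) h2 ((tq_map hf).1 h)
    ((map_le_map_iff_of_injective hf).1 hB) ((PGroup.elemAb_map_iff_of_injective hf).1 el)
    (fun b hb t ht e => (mem_cent_map hf).1 (i _ (mem_map_of_mem _ hb) _ (mem_map_of_mem _ ht)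
      (by rw [← map_inv, ← map_mul]; exact (mem_cent_map hf).2 e))) c
  refine ⟨(idx_cent_map hf).trans a, (map_mono b).trans ?_⟩
  rw [Subgroup.map_sup]
  exact sup_le_sup_left (map_cent _ le_rfl) _

section top
variable (pm : PMin 2 T M ⊤) (cz : 𝐂(𝐘 ⊤ ⊓ 𝐂(T)) ≤ M) (h1 : J ≤ T) (h2 : T ≤ 𝐍(J)) (h : Tq J (𝐘 ⊤))
include pm cz h1 h2 h

/-- Set up `d`, `hy = d.hyp ..` as in `Sit.good_of_pMin` (`CS/EX`); `J.map (toImg W)` is `TG` of order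
`𝐂(V).relIndex J` (`ker_eq`, `sub_cv'`, `relIndex_sub`); apply `card_eq_two` and `le_of_two`. -/
theorem two_top (hB : B ≤ T) (el : IsElementaryAbelian 2 B)
    (i : ∀ b ∈ B, ∀ t ∈ J, t⁻¹ * b ∈ 𝐂(𝐘 (⊤ : Subgroup G)) → b ∈ 𝐂(𝐘 (⊤ : Subgroup G)))
    (c : (𝐂(J) ⊓ 𝐂(B)).relIndex (𝐘 ⊤) ≤ 2 * 𝐂(𝐘 (⊤ : Subgroup G)).relIndex B) :
    𝐂(𝐘 (⊤ : Subgroup G)).relIndex J = 2 ∧ T ≤ J ⊔ 𝐂(𝐘 (⊤ : Subgroup G)) := two_gen pm (norm_Y 2 ⊤) (le_centralizer_oz _) cz h1 h2 h hB el i c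

end top

/-- Pass to the group `P` (`PMin.subgroupOf`, `map_Y`, `tq_map`); modular law and `inf_cent_Y`. -/
theorem two (pm : PMin 2 T M P) (cz : P ⊓ 𝐂(𝐘 P ⊓ 𝐂(T)) ≤ M) (h1 : J ≤ T) (h2 : T ≤ 𝐍(J))
    (h : Tq J (𝐘 P)) (hB : B ≤ T) (el : IsElementaryAbelian 2 B)
    (i : ∀ b ∈ B, ∀ t ∈ J, t⁻¹ * b ∈ 𝐂(𝐘 P) → b ∈ 𝐂(𝐘 P))
    (c : (𝐂(J) ⊓ 𝐂(B)).relIndex (𝐘 P) ≤ 2 * 𝐂(𝐘 P).relIndex B) :
    𝐂(𝐘 P).relIndex J = 2 ∧ T ≤ J ⊔ 𝐐 P := by
  have hf := P.subtype_injective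
  have q := inf_cent_Y pm cz
  have nY := norm_cent (pm.leP.trans (norm_Y 2 P))
  have pm' := pm.subgroupOf le_rfl
  rw [subgroupOf_self] at pm'
  have e : (𝐘 (⊤ : Subgroup P)).map P.subtype = 𝐘 P := by rw [map_Y hf, Core.map_subtype_top]
  have k := two_map (J := J.subgroupOf P) (B := B.subgroupOf P) hf pm' (norm_Y 2 ⊤) (le_centralizer_oz _)
  rw [e, map_subgroupOf_eq_of_le pm.leP, map_subgroupOf_eq_of_le (h1.trans pm.leP),
    map_subgroupOf_eq_of_le (hB.trans pm.leP)] at k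
  obtain ⟨a, b⟩ := k (fun x hx => cz ⟨x.2, hx⟩) h1 h2 h hB el i c
  refine ⟨a, ?_⟩
  rw [← q, inf_comm, sup_comm, ← modular_right h1 (h1.trans nY), sup_comm]
  exact le_inf b le_rfl

end Cfsg.Lib.FQ
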