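import Cfsg.Agent.Lib.FQ.Lift
import Cfsg.Agent.Lib.FQ.Bas

/-!
# The block in a configuration
-/

set_option autoImplicit false
set_option linter.unusedSectionVars false

namespace Cfsg.Lib.FQ

open Subgroup Cfsg.Lib.BG Cfsg.Lib.Transfer Cfsg.Lib.Loc Cfsg.Lib.PLocal Cfsg.Lib.CGT Cfsg.Lib.PU
open Cfsg.Lib.CS
open scoped commutatorElement

variable {G : Type*} [Group G] [Finite G] {B J M P S T W : Subgroup G} {I : Subgroup G → Prop} {y : G}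

/-- Pass to the group `P` with `I' Q := I (Q.map P.subtype)` (`PMin.subgroupOf`, `map_core`, `map_Y`,
`map_baum`, `ch_map`, `bq_map`). -/
theorem Pre.post (h : Pre T M P I) : ∃ V g, Post T M P V g := by
  have hf := P.subtype_injective
  have hT := h.pm.leP
  have e : ∀ {D : Subgroup G}, D ≤ P → (D.subgroupOf P).map P.subtype = D := map_subgroupOf_eq_of_le
  have t : (⊤ : Subgroup P).map P.subtype = P := Core.map_subtype_top P
  have b : (𝐁 (T.subgroupOf P)).map P.subtype = 𝐁 T := by rw [map_baum hf, e hT]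
  have j : (𝐉 (T.subgroupOf P)).map P.subtype = 𝐉 T := by rw [map_thompsonSubgroupOf hf, e hT]
  have y : (𝐘 (⊤ : Subgroup P)).map P.subtype = 𝐘 P := by rw [map_Y hf, t]
  have n : ∀ {D : Subgroup P}, P ⊓ 𝐍(D.map P.subtype) ≤ M → ⊤ ⊓ 𝐍(D) ≤ M.subgroupOf P := fun a x hx =>
    a ⟨x.2, map_norm P.subtype le_rfl (mem_map_of_mem _ hx.2)⟩
  obtain ⟨V, g, k⟩ := Pre.post_top (T := T.subgroupOf P) (M := M.subgroupOf P)
    (I := fun Q => I (Q.map P.subtype)) ⟨subgroupOf_self P ▸ h.pm.subgroupOf le_rfl,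
      fun x hx => h.cz ⟨x.2, by
        rw [← y, ← e hT, ← map_inf_cent hf]; exact (mem_cent_map hf).2 hx.2⟩, n (j.symm ▸ h.nj),
      by rw [Subgroup.map_bot]; exact h.i0, fun Q C a c d i => h.i1 _ _ a (map_mono c) (b ▸ map_mono d)
        (b ▸ (ch_map (by rw [ker_subtype, inf_bot_eq]) (c.trans d) d).2 i),
      fun Q a c d => n (h.i2 _ (b ▸ map_mono a) c (by rw [← b, ← map_inf_cent hf]; exact map_mono d))⟩
  refine ⟨V.map P.subtype, g, g.2, k.gM, b ▸ (bq_map hf).2 k.bq, fun a => k.nc ((le_cent_map hf).1 (j.symm ▸ a)),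
    y ▸ map_mono k.le, fun x hx => ?_⟩
  rw [← t, ← map_core hf] at hx
  obtain ⟨x, hx, rfl⟩ := hx
  exact ⟨_, k.cq x hx, map_commutatorElement ..⟩

/-- `𝐍(T) ≤ 𝐍(Z)`; Frattini argument and `pel_le_sup_pMin` as in `Sit.good_of_ne`. -/
theorem exists_pMin {H N : Subgroup G} (hT : SylIn 2 T H) (h1 : T ≤ N) (h2 : 𝐍(T) ≤ N) (h3 : ¬ H ≤ N) :
    ∃ P ≤ H, ∃ M, PMin 2 T M P ∧ P ⊓ N ≤ M := by
  obtain ⟨P, ⟨a, M, hP⟩, b⟩ : ∃ P ∈ {P | P ≤ H ∧ ∃ M, PMin 2 T M P}, ¬ P ≤ N := by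
    by_contra! e
    have e1 := (pel_le_sup_pMin hT.2.1 H hT.1 hT.2.2).trans (sup_le h1 (sSup_le e))
    refine h3 fun g hg => ?_
    obtain ⟨n, hn, e2⟩ := frattini_argument (le_pel hT.1 hT.2.1) hT.2.1
      (not_dvd_relIndex_of_le_normalizer hT.2.2 (pel_le 2 H) (le_normalizer_pel H)) (le_normalizer_pel H) hg
    exact (mul_mem_cancel_left (e1 hn)).1 (h2 e2)
  exact ⟨P, a, M, hP, hP.uniq _ (le_inf hP.leP h1) (inf_lt_left.2 b)⟩

/-- `P`, `M` from `exists_pMin` with `N = 𝐍(Z)`; `Pre T M P fun Q => 𝐍(B) ≤ 𝐍(Q)` by `Z ≤ W ≤ 𝐐 P`,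
`Xt.nJ`, `Ch.norm_le`, `Xt.i2`; then `Pre.post` and `Bq.thompson` (`𝐁 T = B`, `𝐉 B = J = 𝐉 T`). -/
theorem Xt.out (h : Xt S y J B) (k : Cf (𝛀 S) W T) (hB : B ≤ T) :
    ∃ P M V g, Ot (𝛀 S) J B W T P M V g := by
  have b := h.bb W T k hB
  have j := h.jj W T k (h.JB.trans hB)
  obtain ⟨P, a, M, pm, nz⟩ := exists_pMin k.syl (norm_of_cent k.cz) (h.norm_le k.syl.2.1 (h.JB.trans hB)) k.nle
  have w : W ≤ 𝐐 P := le_core ((le_of_not_dvd_relIndex k.syl.2.2 (le_norm W) k.pg le_rfl).trans pm.leP) a k.pg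
  have z : 𝛀 S ≤ 𝐘 P ⊓ 𝐂(T) := le_inf (le_oz (oz_elemAb S) (k.le.trans w)
    (cent_symm ((core_le_of_not_dvd pm.syl).trans k.cz))) (cent_symm k.cz)
  obtain ⟨V, g, q⟩ := Pre.post (T := T) (M := M) (P := P) (I := fun Q => 𝐍(B) ≤ 𝐍(Q))
    ⟨pm, (inf_le_inf_left P (norm_of_cent (cent_anti z))).trans nz, (inf_le_inf_left P (j.symm ▸ h.nJ)).trans nz,
      le_normalizer_of_normal, fun Q C c d e f => (le_inf (b.symm ▸ le_rfl) c).trans (f.norm_le (d.trans e) e),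
      fun Q c d e => (inf_le_inf_left P (h.i2 (b ▸ c) d (b ▸ e))).trans nz⟩
  have r := q.bq
  rw [b] at r
  exact ⟨P, M, V, g, pm, a, nz, q.gP, q.gM, h.JB' ▸ r.thompson (h.JB'.symm ▸ j ▸ q.nc), r.nV, q.le, q.cq⟩

end Cfsg.Lib.FQ
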