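import Cfsg.Agent.Lib.Frobenius.CN
import Cfsg.Agent.Lib.GW.Four

/-!
# Groups with a Sylow 2-subgroup that has a cyclic subgroup of index at most two
-/

set_option autoImplicit false

namespace Cfsg.Lib.FQ

open Subgroup Cfsg.Lib Cfsg.Lib.BG Cfsg.Lib.Transfer

variable {G : Type*} [Group G] [Finite G]

theorem exists_two {X : Subgroup G} (hX : IsPGroup 2 X) (h : X ≠ ⊥) : ∃ x ∈ X, orderOf x = 2 :=
  Core.exists_mem_orderOf_eq_prime Nat.prime_two (pgroup_dvd_card hX h)

theorem exists_cyc_of_quat {T : Subgroup G} {m : ℕ} [NeZero m] (e : T ≃* QuaternionGroup m) :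
    ∃ C ≤ T, IsCyclic C ∧ C.relIndex T ≤ 2 := by
  have l : zpowers ((e.symm (QuaternionGroup.a 1) : T) : G) ≤ T := zpowers_le.2 (Subtype.prop _)
  refine ⟨_, l, inferInstance, le_of_eq ?_⟩
  have k := Transfer.card_mul_relIndex l
  rw [Nat.card_zpowers, Subgroup.orderOf_coe, MulEquiv.orderOf_eq, QuaternionGroup.orderOf_a_one,
    Nat.card_congr e.toEquiv, Nat.card_eq_fintype_card, QuaternionGroup.card] at k
  have := NeZero.pos m
  exact Nat.eq_of_mul_eq_mul_left (by omega : 0 < 2 * m) (by omega)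

theorem sol_of_cyc {T L : Subgroup G} (hT : Syl 2 T L) (hc : IsCyclic T) : Group.IsSolvable L :=
  GW.sol_of_hall (Hall.of_sd (cyclic_pdiv_normal_complement hT hc fun _ hq _ => hq.two_le)
    (pcore_pi _ _) (by rw [compl_compl]; exact hT.pi)).1

/-- `R` is solvable normal. Take `P` Sylow `r` in `R`, so `G = R 𝐍(P)`, and `T` Sylow 2 in `𝐍(P)`. `T` acts
semiregularly on `P ≠ ⊥`, so it is cyclic or generalized quaternion (`cyclic_or_quaternion_of_semiReg`) and has
a cyclic subgroup of index at most 2; map to `G ⧸ R`, where the image of `𝐍(P)` is `⊤`. -/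
theorem exists_cyc {r : ℕ} (hr : r.Prime) (h2 : r ≠ 2) (hno : ∀ g : G, orderOf g ≠ 2 * r) (R : Subgroup G)
    [R.Normal] (hR : r ∣ Nat.card R) : ∃ T C : Subgroup (G ⧸ R), Syl 2 T ⊤ ∧ IsCyclic C ∧ C ≤ T ∧
      C.relIndex T ≤ 2 := by
  haveI := Fact.mk hr
  obtain ⟨P, hP⟩ := Syl.exists r R
  obtain ⟨T, hT⟩ := Syl.exists 2 𝐍(P)
  have s : SemiReg P T := fun x hx x1 => by_contra fun e => by
    obtain ⟨u, hu, ou⟩ := Core.exists_mem_orderOf_eq_prime hr (pgroup_dvd_card (hP.pgroup.to_le inf_le_left) e)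
    obtain ⟨t, ht, ot⟩ := exists_two (hT.pgroup.to_le (zpowers_le.2 hx)) (zpowers_ne_bot.2 x1)
    have c : Commute t u := BG.mem_cent.1 ((cent_zpowers x).ge hu.2) t ht
    exact hno (t * u) (by
      rw [c.orderOf_mul_eq_mul_orderOf_of_coprime (by
        rw [ot, ou]; exact (Nat.coprime_primes Nat.prime_two hr).2 h2.symm), ot, ou])
  obtain ⟨C, l, hC, i⟩ : ∃ C ≤ T, IsCyclic C ∧ C.relIndex T ≤ 2 := by
    rcases Frobenius.cyclic_or_quaternion_of_semiReg (hP.ne_bot' hR) hT.le s hT.pgroup with c | ⟨-, n, ⟨e⟩⟩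
    · exact ⟨T, le_rfl, c, by rw [relIndex_self]; omega⟩
    · exact exists_cyc_of_quat e
  have e : 𝐍(P).map (QuotientGroup.mk' R) = ⊤ := by
    have := congrArg (Subgroup.map (QuotientGroup.mk' R)) (hP.frattini ⟨le_top, le_normalizer_of_normal⟩)
    rwa [top_inf_eq, Subgroup.map_sup, (Subgroup.map_eq_bot_iff R).2 (QuotientGroup.ker_mk' R).ge, bot_sup_eq,
      map_top_of_surjective _ (QuotientGroup.mk'_surjective R)] at this
  refine ⟨_, _, e ▸ hT.map (QuotientGroup.mk' R), cyclic_map _ hC, map_mono l, le_trans ?_ i⟩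
  rw [← relIndex_comap]
  exact relIndex_le_of_le_left (le_comap_map _ _) index_ne_zero_of_finite

/-- `C ⊓ A` and `C ⊓ B` cannot both be nontrivial (`C` has one involution), say `C ⊓ A = ⊥`; then the Sylow
2-subgroup `T ⊓ A` of `A` has order at most 2 and `A` is solvable (`not_cyclic_syl` in `GW/Four`). -/
theorem sol_or {T C L A B : Subgroup G} (hT : Syl 2 T ⊤) (h1 : IsCyclic C) (h2 : C ≤ T) (h3 : C.relIndex T ≤ 2)
    [L.Normal] (hA : Nml A L) (hB : Nml B L) (h0 : A ⊓ B = ⊥) : Group.IsSolvable A ∨ Group.IsSolvable B := by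
  have hL := hT.inf_nml (N := L) ⟨le_top, le_normalizer_of_normal⟩
  have key : ∀ A : Subgroup G, Nml A L → C ⊓ A = ⊥ → Group.IsSolvable A := fun A hA e => by
    refine sol_of_cyc (hL.inf_nml hA) (isCyclic_of_card_dvd_prime (p := 2) ?_)
    have k := Core.card_inf_mul_relIndex C (T ⊓ L ⊓ A)
    rw [eq_bot_mono e (inf_le_inf_left C inf_le_right), card_bot, one_mul] at k
    have a := k.ge.trans ((relIndex_le_of_le_right (inf_le_left.trans inf_le_left)
      index_ne_zero_of_finite).trans h3)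
    have b : 0 < Nat.card ↥(T ⊓ L ⊓ A) := Nat.card_pos
    generalize Nat.card ↥(T ⊓ L ⊓ A) = m at a b
    interval_cases m <;> simp
  by_contra! n
  have pC := hT.pgroup.to_le h2
  obtain ⟨a, ha, oa⟩ := exists_two (pC.to_le inf_le_left) fun e => n.1 (key A hA e)
  obtain ⟨b, hb, ob⟩ := exists_two (pC.to_le inf_le_left) fun e => n.2 (key B hB e)
  have e := cyclic_eq_of_card h1 (zpowers_le.2 ha.1) (zpowers_le.2 hb.1)
    (by rw [Nat.card_zpowers, Nat.card_zpowers, oa, ob])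
  have : a = 1 := mem_bot.1 (h0.le ⟨ha.2, zpowers_le.2 hb.2 (e.le (mem_zpowers a))⟩)
  rw [this, orderOf_one] at oa
  omega

end Cfsg.Lib.FQ
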